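import Mathlib
import Cfsg.Prelude.Def_Involutions
import Cfsg.Agent.Lib.Involutions.StronglyEmbedded

/-!
# Strongly embedded subgroups with a normal Sylow 2-subgroup: basic facts

Theorem T of `notes/se-two-closed-h29.md`. For a point `x` of `G ⧸ H`: `Sx x` is generated by the
2-elements fixing `x`, `Wx x` by the involutions fixing `x`, `Ux x` is the centralizer of `Wx x` in the
stabilizer of `x`.
-/

set_option autoImplicit false
set_option linter.style.haveILetI false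
set_option linter.unusedSectionVars false

namespace Cfsg.Agent.SETwoClosed

open Subgroup MulAction
open Cfsg.Agent.Involutions

universe u

/-- An element of 2-power order. -/
def TwoEl {G : Type u} [Group G] (x : G) : Prop := ∃ k : ℕ, x ^ 2 ^ k = 1

variable {G : Type u} [Group G]

/-- The hypothesis: `H` is strongly embedded, its 2-elements form a subgroup, and it contains two
commuting involutions. -/
structure Hyp (H : Subgroup G) : Prop where
  se : Cfsg.IsStronglyEmbedded H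
  closed : ∀ a ∈ H, ∀ b ∈ H, TwoEl a → TwoEl b → TwoEl (a * b)
  four : ∃ a ∈ H, ∃ b ∈ H, orderOf a = 2 ∧ orderOf b = 2 ∧ a ≠ b ∧ Commute a b

variable {H : Subgroup G}

/-- The base point. -/
abbrev base (H : Subgroup G) : G ⧸ H := ((1 : G) : G ⧸ H)

/-- The subgroup generated by the 2-elements fixing `x`. -/
def Sx (x : G ⧸ H) : Subgroup G := closure {e : G | e • x = x ∧ TwoEl e}

/-- The subgroup generated by the involutions fixing `x`. -/
def Wx (x : G ⧸ H) : Subgroup G := closure {e : G | e • x = x ∧ e * e = 1}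

/-- The centralizer of `Wx x` in the stabilizer of `x`. -/
def Ux (x : G ⧸ H) : Subgroup G := stabilizer G x ⊓ centralizer (Wx x : Set G)

theorem twoEl_one : TwoEl (1 : G) := ⟨0, one_pow _⟩

theorem TwoEl.conj {e : G} (h : TwoEl e) (g : G) : TwoEl (g * e * g⁻¹) := by
  obtain ⟨k, hk⟩ := h
  exact ⟨k, by rw [conj_pow, hk, mul_one, mul_inv_cancel]⟩

theorem TwoEl.inv {e : G} (h : TwoEl e) : TwoEl e⁻¹ := by
  obtain ⟨k, hk⟩ := h
  exact ⟨k, by rw [inv_pow, hk, inv_one]⟩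

theorem twoEl_of_sq {e : G} (h : e * e = 1) : TwoEl e := ⟨1, by rw [pow_one, pow_two, h]⟩

theorem TwoEl.eq_one_of_odd [Finite G] {e : G} (h : TwoEl e) (ho : Odd (orderOf e)) : e = 1 := by
  obtain ⟨k, hk⟩ := h
  have h1 := orderOf_dvd_of_pow_eq_one hk
  rw [← orderOf_eq_one_iff]
  exact Nat.eq_one_of_dvd_coprimes (Nat.Coprime.pow_left k (Nat.coprime_two_left.2 ho)) h1 dvd_rfl

theorem smul_base_iff {g : G} : g • base H = base H ↔ g ∈ H := by
  show ((g * 1 : G) : G ⧸ H) = _ ↔ _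
  rw [mul_one, QuotientGroup.eq, mul_one, inv_mem_iff]

theorem stab_base : stabilizer G (base H) = H := stabilizer_quotient H

theorem exists_smul_base (x : G ⧸ H) : ∃ g : G, g • base H = x := MulAction.exists_smul_eq G _ _

theorem smul_fix_iff {e g : G} {x : G ⧸ H} : e • (g • x) = g • x ↔ (g⁻¹ * e * g) • x = x := by
  rw [mul_smul, mul_smul, inv_smul_eq_iff]

theorem conj_smul_fix {e g : G} {x : G ⧸ H} (he : e • x = x) : (g * e * g⁻¹) • (g • x) = g • x := by
  rw [mul_smul, inv_smul_smul, mul_smul, he]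

theorem stab_conj {e g : G} {x : G ⧸ H} (he : e ∈ stabilizer G x) :
    g * e * g⁻¹ ∈ stabilizer G (g • x) := conj_smul_fix (mem_stabilizer_iff.1 he)

theorem Sx_le (x : G ⧸ H) : Sx x ≤ stabilizer G x := (closure_le _).2 fun _ he => he.1

theorem Wx_le_Sx (x : G ⧸ H) : Wx x ≤ Sx x :=
  closure_mono fun _ he => ⟨he.1, twoEl_of_sq he.2⟩

theorem Wx_le (x : G ⧸ H) : Wx x ≤ stabilizer G x := (Wx_le_Sx x).trans (Sx_le x)

theorem Ux_le (x : G ⧸ H) : Ux x ≤ stabilizer G x := inf_le_left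

theorem mem_Ux {e : G} {x : G ⧸ H} :
    e ∈ Ux x ↔ e • x = x ∧ ∀ w ∈ Wx x, w * e = e * w :=
  ⟨fun h => ⟨(mem_inf.1 h).1, mem_centralizer_iff.1 (mem_inf.1 h).2⟩,
    fun h => mem_inf.2 ⟨h.1, mem_centralizer_iff.2 h.2⟩⟩

theorem closure_conj {s t : Set G} (g : G) (h : ∀ e ∈ s, g * e * g⁻¹ ∈ t) {e : G} (he : e ∈ closure s) :
    g * e * g⁻¹ ∈ closure t := by
  have : (closure s).map (MulAut.conj g).toMonoidHom ≤ closure t := by
    rw [MonoidHom.map_closure]
    exact closure_mono (by rintro _ ⟨a, ha, rfl⟩; exact h a ha)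
  exact this ⟨e, he, rfl⟩

theorem Sx_conj {e g : G} {x : G ⧸ H} (he : e ∈ Sx x) : g * e * g⁻¹ ∈ Sx (g • x) :=
  closure_conj (t := {e : G | e • (g • x) = g • x ∧ TwoEl e}) g (fun _ h => ⟨conj_smul_fix h.1, h.2.conj g⟩) he

theorem Wx_conj {e g : G} {x : G ⧸ H} (he : e ∈ Wx x) : g * e * g⁻¹ ∈ Wx (g • x) :=
  closure_conj (t := {e : G | e • (g • x) = g • x ∧ e * e = 1}) g (fun a h => ⟨conj_smul_fix h.1, by
    rw [show g * a * g⁻¹ * (g * a * g⁻¹) = g * (a * a) * g⁻¹ by group, h.2, mul_one, mul_inv_cancel]⟩) he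

theorem Wx_conj' {e g : G} {x : G ⧸ H} (he : e ∈ Wx (g • x)) : g⁻¹ * e * g ∈ Wx x := by
  simpa using Wx_conj (g := g⁻¹) he

theorem Ux_conj {e g : G} {x : G ⧸ H} (he : e ∈ Ux x) : g * e * g⁻¹ ∈ Ux (g • x) := by
  rw [mem_Ux] at he ⊢
  refine ⟨conj_smul_fix he.1, fun w hw => ?_⟩
  have h := he.2 _ (Wx_conj' hw)
  calc w * (g * e * g⁻¹) = g * (g⁻¹ * w * g * e) * g⁻¹ := by group
    _ = g * (e * (g⁻¹ * w * g)) * g⁻¹ := by rw [h]
    _ = _ := by group

theorem Wx_normal {e g : G} {x : G ⧸ H} (hg : g • x = x) (he : e ∈ Wx x) : g * e * g⁻¹ ∈ Wx x := by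
  have := Wx_conj (g := g) he
  rwa [hg] at this

theorem Sx_normal {e g : G} {x : G ⧸ H} (hg : g • x = x) (he : e ∈ Sx x) : g * e * g⁻¹ ∈ Sx x := by
  have := Sx_conj (g := g) he
  rwa [hg] at this

theorem Ux_normal {e g : G} {x : G ⧸ H} (hg : g • x = x) (he : e ∈ Ux x) : g * e * g⁻¹ ∈ Ux x := by
  have := Ux_conj (g := g) he
  rwa [hg] at this

theorem stab_le_normalizer_Wx (x : G ⧸ H) : stabilizer G x ≤ normalizer (Wx x : Set G) := fun g hg =>
  mem_normalizer_iff.2 fun e => ⟨fun he => Wx_normal (mem_stabilizer_iff.1 hg) he, fun h => by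
    simpa [mul_assoc] using Wx_normal (g := g⁻¹) (mem_stabilizer_iff.1 (inv_mem hg)) h⟩

theorem stab_le_normalizer_Sx (x : G ⧸ H) : stabilizer G x ≤ normalizer (Sx x : Set G) := fun g hg =>
  mem_normalizer_iff.2 fun e => ⟨fun he => Sx_normal (mem_stabilizer_iff.1 hg) he, fun h => by
    simpa [mul_assoc] using Sx_normal (g := g⁻¹) (mem_stabilizer_iff.1 (inv_mem hg)) h⟩

theorem stab_le_normalizer_Ux (x : G ⧸ H) : stabilizer G x ≤ normalizer (Ux x : Set G) := fun g hg =>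
  mem_normalizer_iff.2 fun e => ⟨fun he => Ux_normal (mem_stabilizer_iff.1 hg) he, fun h => by
    simpa [mul_assoc] using Ux_normal (g := g⁻¹) (mem_stabilizer_iff.1 (inv_mem hg)) h⟩

variable [Finite G] (h : Hyp H)
include h

theorem Hyp.twoEl_of_mem {x : G ⧸ H} {e : G} (he : e ∈ Sx x) : TwoEl e := by
  obtain ⟨g, rfl⟩ := exists_smul_base x
  have h1 : ∀ a ∈ closure {a : G | a • base H = base H ∧ TwoEl a}, a ∈ H ∧ TwoEl a := by
    intro a ha
    induction ha using closure_induction with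
    | mem a ha => exact ⟨smul_base_iff.1 ha.1, ha.2⟩
    | one => exact ⟨one_mem _, twoEl_one⟩
    | mul a b _ _ ha hb => exact ⟨mul_mem ha.1 hb.1, h.closed a ha.1 b hb.1 ha.2 hb.2⟩
    | inv a _ ha => exact ⟨inv_mem ha.1, ha.2.inv⟩
  have h2 : g⁻¹ * e * g ∈ Sx (base H) := by simpa using Sx_conj (g := g⁻¹) he
  simpa [mul_assoc] using (h1 _ h2).2.conj g

theorem Hyp.mem_Sx {x : G ⧸ H} {e : G} : e ∈ Sx x ↔ e • x = x ∧ TwoEl e :=
  ⟨fun he => ⟨mem_stabilizer_iff.1 (Sx_le x he), h.twoEl_of_mem he⟩, fun he => subset_closure he⟩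

theorem Hyp.isPGroup_Sx (x : G ⧸ H) : IsPGroup 2 ↥(Sx x) := fun e =>
  (h.twoEl_of_mem e.2).imp fun _ hk => Subtype.ext (by simpa using hk)

theorem Hyp.eq_of_fixed {i : G} (hi : orderOf i = 2) {x y : G ⧸ H} (hx : i • x = x) (hy : i • y = y) :
    x = y :=
  (StronglyEmbedded.existsUnique_fixed h.se hi).unique hx hy

theorem Hyp.exists_fixed {i : G} (hi : orderOf i = 2) : ∃ x : G ⧸ H, i • x = x :=
  (StronglyEmbedded.existsUnique_fixed h.se hi).exists

theorem Hyp.odd_of_fix_two {x y : G ⧸ H} (hxy : x ≠ y) {d : G} (hx : d • x = x) (hy : d • y = y) :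
    Odd (orderOf d) := by
  by_contra hodd
  rw [Nat.not_odd_iff_even] at hodd
  obtain ⟨m, hm⟩ := hodd
  have hpos := orderOf_pos d
  have h2 : orderOf (d ^ m) = 2 := by
    rw [orderOf_pow' _ (by omega), hm, Nat.gcd_eq_right (⟨2, by omega⟩ : m ∣ m + m)]
    rw [show m + m = 2 * m by omega, Nat.mul_div_cancel _ (by omega)]
  exact hxy (h.eq_of_fixed h2 (mem_stabilizer_iff.1 (pow_mem (mem_stabilizer_iff.2 hx) m))
    (mem_stabilizer_iff.1 (pow_mem (mem_stabilizer_iff.2 hy) m)))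

theorem Hyp.eq_one_of_fix_two {x y : G ⧸ H} (hxy : x ≠ y) {d : G} (hd : d ∈ Sx x) (hy : d • y = y) :
    d = 1 :=
  (h.twoEl_of_mem hd).eq_one_of_odd (h.odd_of_fix_two hxy (Sx_le x hd) hy)

omit h in
theorem involution_of_twoEl {e : G} (he : TwoEl e) (h1 : e ≠ 1) : ∃ k : ℕ, orderOf (e ^ k) = 2 := by
  obtain ⟨n, hn⟩ := he
  obtain ⟨j, -, hj⟩ := (Nat.dvd_prime_pow Nat.prime_two).1 (orderOf_dvd_of_pow_eq_one hn)
  refine ⟨orderOf e / 2, orderOf_pow_orderOf_div (orderOf_pos e).ne' (hj ▸ dvd_pow_self 2 ?_)⟩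
  rintro rfl
  rw [pow_zero, orderOf_eq_one_iff] at hj
  exact h1 hj

theorem Hyp.Wx_central {x : G ⧸ H} {w s : G} (hw : w ∈ Wx x) (hs : s ∈ Sx x) : s * w = w * s := by
  obtain ⟨g, rfl⟩ := exists_smul_base x
  have key : ∀ i : G, i • base H = base H → i * i = 1 → ∀ a ∈ Sx (base H), a * i = i * a := by
    intro i hiH hi a ha
    by_cases hi1 : i = 1
    · rw [hi1, mul_one, one_mul]
    haveI : Fact (Nat.Prime 2) := ⟨Nat.prime_two⟩
    -- a central involution of `Sx`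
    obtain ⟨r, hr⟩ : ∃ r : G, r ∈ Sx (base H) ∧ orderOf r = 2 ∧ ∀ b ∈ Sx (base H), b * r = r * b := by
      haveI : Nontrivial ↥(Sx (base H)) := ⟨⟨⟨i, subset_closure ⟨hiH, twoEl_of_sq hi⟩⟩, 1,
        fun e => hi1 (congrArg Subtype.val e)⟩⟩
      haveI := IsPGroup.center_nontrivial (h.isPGroup_Sx (base H))
      obtain ⟨⟨r, hr⟩, hr1⟩ := exists_ne (1 : center ↥(Sx (base H)))
      obtain ⟨k, hk⟩ := involution_of_twoEl (h.twoEl_of_mem r.2) fun e => hr1 (Subtype.ext (Subtype.ext e))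
      exact ⟨_, pow_mem r.2 k, hk, fun b hb =>
        ((show Commute b (r : G) from congrArg Subtype.val (mem_center_iff.1 hr ⟨b, hb⟩)).pow_right k).eq⟩
    obtain ⟨hrS, hr2, hrc⟩ := hr
    obtain ⟨u, huH, hu⟩ := StronglyEmbedded.exists_involution_notMem h.se
    obtain ⟨d, hd, hdr⟩ := StronglyEmbedded.exists_conj_in_inter h.se hu huH hr2
      (smul_base_iff.1 (Sx_le _ hrS)) (Basic.orderOf_two_iff.2 ⟨hi, hi1⟩) (smul_base_iff.1 hiH)
    have hd' : d • base H = base H := smul_base_iff.2 hd.1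
    have h2 := hrc (d⁻¹ * a * d) (by
      simpa [mul_assoc] using Sx_normal (g := d⁻¹) (mem_stabilizer_iff.1 (inv_mem (mem_stabilizer_iff.2 hd'))) ha)
    rw [← hdr]
    calc a * (d * r * d⁻¹) = d * (d⁻¹ * a * d * r) * d⁻¹ := by group
      _ = d * (r * (d⁻¹ * a * d)) * d⁻¹ := by rw [h2]
      _ = _ := by group
  have hwg : g⁻¹ * w * g ∈ Wx (base H) := Wx_conj' hw
  have hsg : g⁻¹ * s * g ∈ Sx (base H) := by simpa using Sx_conj (g := g⁻¹) hs
  have h3 : (g⁻¹ * s * g) * (g⁻¹ * w * g) = (g⁻¹ * w * g) * (g⁻¹ * s * g) := by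
    generalize g⁻¹ * w * g = w' at hwg ⊢
    induction hwg using closure_induction with
    | mem i hi => exact key i hi.1 hi.2 _ hsg
    | one => rw [mul_one, one_mul]
    | mul a b _ _ ha hb => exact ((show Commute _ a from ha).mul_right hb).eq
    | inv a _ ha => exact (show Commute _ a from ha).inv_right.eq
  calc s * w = g * ((g⁻¹ * s * g) * (g⁻¹ * w * g)) * g⁻¹ := by group
    _ = _ := by rw [h3]; group

theorem Hyp.mem_Wx {x : G ⧸ H} {e : G} : e ∈ Wx x ↔ e • x = x ∧ e * e = 1 := by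
  refine ⟨fun he => ⟨mem_stabilizer_iff.1 (Wx_le x he), ?_⟩, fun he => subset_closure he⟩
  induction he using closure_induction with
  | mem a ha => exact ha.2
  | one => exact mul_one 1
  | mul a b ha hb haa hbb =>
    calc a * b * (a * b) = a * (b * a) * b := by group
      _ = a * (a * b) * b := by rw [h.Wx_central ha (Wx_le_Sx x hb)]
      _ = (a * a) * (b * b) := by group
      _ = 1 := by rw [haa, hbb, mul_one]
  | inv a _ haa => rw [← mul_inv_rev, haa, inv_one]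

theorem Hyp.Wx_comm {x : G ⧸ H} {a b : G} (ha : a ∈ Wx x) (hb : b ∈ Wx x) : a * b = b * a :=
  h.Wx_central hb (Wx_le_Sx x ha)

theorem Hyp.Sx_le_Ux (x : G ⧸ H) : Sx x ≤ Ux x := fun _ he =>
  mem_Ux.2 ⟨Sx_le x he, fun _ hw => (h.Wx_central hw he).symm⟩

theorem Hyp.orderOf_mem_Wx {x : G ⧸ H} {e : G} (he : e ∈ Wx x) (h1 : e ≠ 1) : orderOf e = 2 :=
  Basic.orderOf_two_iff.2 ⟨(h.mem_Wx.1 he).2, h1⟩

theorem Hyp.fix_eq {x y : G ⧸ H} {e : G} (he : e ∈ Wx x) (h1 : e ≠ 1) (hy : e • y = y) : x = y :=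
  h.eq_of_fixed (h.orderOf_mem_Wx he h1) (Wx_le x he) hy

/-- A centralizer of a nonidentity element of `Wx x` fixes `x`. -/
theorem Hyp.smul_of_commute {x : G ⧸ H} {e g : G} (he : e ∈ Wx x) (h1 : e ≠ 1) (hg : Commute g e) :
    g • x = x :=
  (h.fix_eq he h1 (by rw [← mul_smul, ← hg.eq, mul_smul, mem_stabilizer_iff.1 (Wx_le x he)])).symm

theorem Hyp.exists_ne_one_Wx (x : G ⧸ H) : ∃ e ∈ Wx x, e ≠ 1 := by
  obtain ⟨g, rfl⟩ := exists_smul_base x
  obtain ⟨a, ha, b, hb, ha2, -⟩ := h.four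
  refine ⟨g * a * g⁻¹, Wx_conj (h.mem_Wx.2 ⟨smul_base_iff.2 ha, Basic.inv_sq_one ha2⟩), ?_⟩
  intro e
  exact Basic.ne_one ha2 (conj_eq_one_iff.1 e)

theorem Hyp.exists_swap {x y : G ⧸ H} (hxy : x ≠ y) :
    ∃ u : G, orderOf u = 2 ∧ u • x = y ∧ u • y = x := by
  have hcard := StronglyEmbedded.card_swap h.se x y hxy
  obtain ⟨t, htM, ht⟩ := StronglyEmbedded.exists_involution_mem h.se.2.1
  haveI : Nonempty {t : G // orderOf t = 2 ∧ t ∈ H} := ⟨⟨t, ht, htM⟩⟩
  obtain ⟨⟨u, hu, hux⟩⟩ : Nonempty {i : G // orderOf i = 2 ∧ i • x = y} :=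
    (Nat.card_pos_iff.1 (hcard ▸ Nat.card_pos)).1
  refine ⟨u, hu, hux, ?_⟩
  rw [← hux, smul_smul, Basic.inv_sq_one hu, one_smul]

omit h in
/-- The involution that swaps two points swaps their stabilizers. -/
theorem swap_conj {x y : G ⧸ H} {u d : G} (hu : orderOf u = 2) (hux : u • x = y) (huy : u • y = x)
    (hd : d ∈ stabilizer G x ⊓ stabilizer G y) : u * d * u ∈ stabilizer G x ⊓ stabilizer G y := by
  obtain ⟨hdx, hdy⟩ := mem_inf.1 hd
  rw [mem_stabilizer_iff] at hdx hdy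
  refine mem_inf.2 ⟨?_, ?_⟩ <;> rw [mem_stabilizer_iff, mul_smul, mul_smul]
  · rw [hux, hdy, huy]
  · rw [huy, hdx, hux]

theorem Hyp.odd_D {x y : G ⧸ H} (hxy : x ≠ y) : Odd (Nat.card ↥(stabilizer G x ⊓ stabilizer G y)) := by
  by_contra hodd
  rw [Nat.not_odd_iff_even] at hodd
  obtain ⟨e, he, he2⟩ := StronglyEmbedded.exists_involution_mem hodd
  exact hxy (h.eq_of_fixed he2 (mem_inf.1 he).1 (mem_inf.1 he).2)

/-- The two-point stabilizer is transitive on the involutions fixing one of the points. -/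
theorem Hyp.exists_conj_D {x y : G ⧸ H} (hxy : x ≠ y) {e f : G} (he : e ∈ Wx x) (he1 : e ≠ 1)
    (hf : f ∈ Wx x) (hf1 : f ≠ 1) :
    ∃ d ∈ stabilizer G x ⊓ stabilizer G y, d * e * d⁻¹ = f := by
  obtain ⟨g, rfl⟩ := exists_smul_base x
  obtain ⟨u, hu, hux, -⟩ := h.exists_swap (show base H ≠ g⁻¹ • y from fun e' => hxy (by rw [e', smul_inv_smul]))
  have huH : u ∉ H := fun e' => hxy (by rw [← smul_inv_smul g y, ← hux, smul_base_iff.2 e'])
  have key : ∀ w ∈ Wx (g • base H), w ≠ 1 → orderOf (g⁻¹ * w * g) = 2 ∧ g⁻¹ * w * g ∈ H := by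
    intro w hw hw1
    refine ⟨h.orderOf_mem_Wx (Wx_conj' hw) ?_, smul_base_iff.1 (Wx_le _ (Wx_conj' hw))⟩
    intro e'
    apply hw1
    calc w = g * (g⁻¹ * w * g) * g⁻¹ := by group
      _ = 1 := by rw [e']; group
  obtain ⟨d, hd, hde⟩ := StronglyEmbedded.exists_conj_in_inter h.se hu huH (key e he he1).1 (key e he he1).2
    (key f hf hf1).1 (key f hf hf1).2
  refine ⟨g * d * g⁻¹, mem_inf.2 ⟨stab_conj (smul_base_iff.2 hd.1), ?_⟩, ?_⟩
  · obtain ⟨b, hb, rfl⟩ := hd.2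
    have := stab_conj (g := g) (stab_conj (g := u) (x := base H) (smul_base_iff.2 hb : b ∈ stabilizer G (base H)))
    rw [hux, smul_inv_smul] at this
    exact this
  · calc g * d * g⁻¹ * e * (g * d * g⁻¹)⁻¹ = g * (d * (g⁻¹ * e * g) * d⁻¹) * g⁻¹ := by group
      _ = f := by rw [hde]; group

/-- Two swappers of the same pair are conjugate under the two-point stabilizer. -/
theorem Hyp.swap_isConj {x y : G ⧸ H} (hxy : x ≠ y) {u v : G} (hu : orderOf u = 2) (hux : u • x = y)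
    (hv : orderOf v = 2) (hvx : v • x = y) :
    ∃ d ∈ stabilizer G x ⊓ stabilizer G y, d * u * d⁻¹ = v := by
  have huy : u • y = x := by rw [← hux, smul_smul, Basic.inv_sq_one hu, one_smul]
  have hvy : v • y = x := by rw [← hvx, smul_smul, Basic.inv_sq_one hv, one_smul]
  have hD : u * v ∈ stabilizer G x ⊓ stabilizer G y := by
    refine mem_inf.2 ⟨?_, ?_⟩ <;> rw [mem_stabilizer_iff, mul_smul]
    · rw [hvx, huy]
    · rw [hvy, hux]
  have hodd : Odd (orderOf (u * v)) := h.odd_of_fix_two hxy (mem_inf.1 hD).1 (mem_inf.1 hD).2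
  obtain ⟨d, hd, hdv⟩ := Basic.exists_conj_of_odd hu hv hodd
  exact ⟨d, zpowers_le.2 hD hd, hdv⟩

/-- The centralizer of a swapper has index the number of involutions fixing a point. -/
theorem Hyp.card_D {x y : G ⧸ H} (hxy : x ≠ y) {u : G} (hu : orderOf u = 2) (hux : u • x = y) :
    Nat.card ↥(stabilizer G x ⊓ stabilizer G y) = (Nat.card ↥(Wx (base H)) - 1) *
      Nat.card ↥(centralizer ({u} : Set G) ⊓ (stabilizer G x ⊓ stabilizer G y)) := by
  classical
  set D := stabilizer G x ⊓ stabilizer G y with hD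
  have huy : u • y = x := by rw [← hux, smul_smul, Basic.inv_sq_one hu, one_smul]
  -- the orbit of `u` is the set of swappers
  let Sw := {i : G // orderOf i = 2 ∧ i • x = y}
  letI : MulAction ↥D Sw :=
    { smul := fun d i => ⟨d * i.1 * (d : G)⁻¹, by rw [Basic.orderOf_conj, i.2.1], by
        rw [mul_smul, mul_smul, mem_stabilizer_iff.1 (inv_mem (mem_inf.1 d.2).1), i.2.2]
        exact (mem_inf.1 d.2).2⟩
      one_smul := fun i => Subtype.ext (show (1 : G) * i.1 * (1 : G)⁻¹ = i.1 by group)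
      mul_smul := fun d e i => Subtype.ext (show ((d * e : ↥D) : G) * i.1 * ((d * e : ↥D) : G)⁻¹ =
        d * (e * i.1 * (e : G)⁻¹) * (d : G)⁻¹ by simp only [Subgroup.coe_mul]; group) }
  set u₀ : Sw := ⟨u, hu, hux⟩ with hu₀
  have horb : orbit ↥D u₀ = Set.univ := by
    refine Set.eq_univ_of_forall fun i => ?_
    obtain ⟨d, hd, e⟩ := h.swap_isConj hxy hu hux i.2.1 i.2.2
    exact ⟨⟨d, hd⟩, Subtype.ext e⟩
  have hst : (stabilizer ↥D u₀).map D.subtype = centralizer ({u} : Set G) ⊓ D := by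
    ext g
    constructor
    · rintro ⟨d, hd, rfl⟩
      refine mem_inf.2 ⟨mem_centralizer_singleton_iff.2 ?_, d.2⟩
      have e : (d : G) * u * (d : G)⁻¹ = u := congrArg Subtype.val hd
      exact mul_inv_eq_iff_eq_mul.1 e
    · rintro ⟨hg, hgD⟩
      refine ⟨⟨g, hgD⟩, Subtype.ext ?_, rfl⟩
      show g * u * g⁻¹ = u
      rw [mem_centralizer_singleton_iff.1 hg, mul_inv_cancel_right]
  have hcardW : Nat.card Sw = Nat.card ↥(Wx (base H)) - 1 := by
    rw [show Nat.card Sw = Nat.card {t : G // orderOf t = 2 ∧ t ∈ H} from StronglyEmbedded.card_swap h.se x y hxy]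
    have e1 : ((Wx (base H) : Set G) \ {1}).ncard = Nat.card ↥(Wx (base H)) - 1 := by
      rw [Set.ncard_sdiff_singleton_of_mem (one_mem (Wx (base H))), ← Nat.card_coe_set_eq]
      rfl
    rw [← e1, ← Nat.card_coe_set_eq]
    refine Nat.card_congr (Equiv.subtypeEquivRight fun t => ?_)
    show orderOf t = 2 ∧ t ∈ H ↔ t ∈ (Wx (base H) : Set G) \ {1}
    rw [Set.mem_sdiff, Set.mem_singleton_iff, SetLike.mem_coe, h.mem_Wx, smul_base_iff, Basic.orderOf_two_iff]
    tauto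
  have h2 := Nat.card_congr (MulAction.orbitEquivQuotientStabilizer ↥D u₀)
  rw [← hst, card_map_of_injective D.subtype_injective, ← hcardW,
    show Nat.card Sw = Nat.card (orbit ↥D u₀) by rw [horb]; exact (Nat.card_congr (Equiv.Set.univ Sw)).symm,
    h2, ← Subgroup.index, mul_comm, card_mul_index]

end Cfsg.Agent.SETwoClosed
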