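import Mathlib
import Cfsg.Agent.S3360
import Cfsg.Agent.Lib.CharP.Zsigmondy

/-!
# Transitive linear groups of odd order in characteristic two

For a group of odd order acting faithfully on an elementary abelian 2-group of order `2 ^ n` and
transitively on its nonidentity elements: a prime `p` dividing `2 ^ n - 1` whose elements form a cyclic
normal subgroup of fixed-point-free elements, such that an element centralizing that subgroup is
fixed-point-free, and an element of prime power order fixes as many elements as a subfield.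
-/

set_option autoImplicit false
set_option linter.style.haveILetI false
set_option linter.unusedSectionVars false

namespace Cfsg.Agent.SETwoClosed

universe u v

/-- A prime dividing `2 ^ n - 1` but not `n`, dividing no `2 ^ k - 1` for a proper divisor `k` of odd
index, and equal to 3 only for `n = 2`. -/
theorem exists_good_prime {n : ℕ} (hn : 2 ≤ n) :
    ∃ p : ℕ, p.Prime ∧ p ∣ 2 ^ n - 1 ∧ ¬ p ∣ n ∧ (p = 3 → n = 2) ∧
      ∀ k : ℕ, k ∣ n → p ∣ 2 ^ k - 1 → Odd (n / k) → k = n := by
  by_cases h6 : n = 6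
  · subst h6
    refine ⟨7, by norm_num, by norm_num, by norm_num, by norm_num, fun k hk hp hodd => ?_⟩
    have := Nat.le_of_dvd (by norm_num) hk
    interval_cases k <;> revert hk hp hodd <;> decide
  obtain ⟨p, hp, hdvd, hprim⟩ := Cfsg.Agent.CharP.Zsigmondy.zsigmondy (a := 2) (n := n) (by norm_num) (by omega)
    (fun h => h6 h.2) (fun ⟨_, m, hm⟩ => by
      rcases m with _ | _ | m
      · simp at hm
      · simp at hm
      · rw [pow_succ, pow_succ] at hm; omega)
  refine ⟨p, hp, hdvd, ?_, ?_, fun k hk hpk _ => ?_⟩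
  · intro hpn
    have hp2 : p ≠ 2 := by
      rintro rfl
      have h1 : Even (2 ^ n - 1) := even_iff_two_dvd.2 hdvd
      rw [Nat.even_sub (Nat.one_le_two_pow)] at h1
      exact Nat.not_even_one (h1.1 ((Nat.even_pow).2 ⟨even_two, by omega⟩))
    haveI := Fact.mk hp
    have hlt : n ≤ p - 1 := by
      by_contra hc
      refine hprim (p - 1) (by have := hp.two_le; omega) (by omega) ?_
      have h1 : (2 : ZMod p) ^ (p - 1) = 1 := ZMod.pow_card_sub_one_eq_one (fun h => hp2 (by
        have h2 : ((2 : ℕ) : ZMod p) = 0 := by exact_mod_cast h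
        rw [ZMod.natCast_eq_zero_iff] at h2
        exact (Nat.prime_dvd_prime_iff_eq hp Nat.prime_two).1 h2))
      rw [← ZMod.natCast_eq_zero_iff, Nat.cast_sub (Nat.one_le_two_pow)]
      push_cast
      rw [h1, sub_self]
    have := Nat.le_of_dvd (by omega) hpn
    have := hp.two_le
    omega
  · rintro rfl
    by_contra hn2
    exact hprim 2 (by omega) (by omega) (by norm_num)
  · by_contra hne
    rcases Nat.eq_zero_or_pos k with rfl | hk0
    · simp at hk; omega
    exact hprim k hk0 (lt_of_le_of_ne (Nat.le_of_dvd (by omega) hk) hne) hpk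

/-- The properties of the prime. -/
structure Torus (A : Type u) [Group A] (W : Type v) [AddCommGroup W] [DistribMulAction A W]
    (n p : ℕ) : Prop where
  prime : p.Prime
  dvd : p ∣ 2 ^ n - 1
  cyclic : ∃ P : Subgroup A, P.Normal ∧ IsCyclic P ∧ (∀ a : A, a ∈ P ↔ ∃ k : ℕ, a ^ p ^ k = 1) ∧
    Nat.card P = p ^ (2 ^ n - 1).factorization p
  fpf : ∀ a : A, (∃ k : ℕ, a ^ p ^ k = 1) → a ≠ 1 → ∀ w : W, a • w = w → w = 0
  fpf_cent : ∀ a c : A, orderOf c = p ^ (2 ^ n - 1).factorization p → a * c = c * a → a ≠ 1 →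
    ∀ w : W, a • w = w → w = 0
  three : p = 3 → n = 2
  fixed : ∀ (a : A) (r j : ℕ), r.Prime → a ^ r ^ j = 1 → ∀ w : W, w ≠ 0 → a • w = w →
    ∃ k : ℕ, Nat.card {v : W // a • v = v} = 2 ^ k ∧ ∃ i : ℕ, n = k * r ^ i

theorem mem_fixedField_zpowers {F : Type} [Field F] [Algebra (ZMod 2) F] (s : F ≃ₐ[ZMod 2] F) (x : F) :
    x ∈ IntermediateField.fixedField (Subgroup.zpowers s) ↔ s x = x := by
  rw [IntermediateField.mem_fixedField_iff]
  exact ⟨fun hx => hx s (Subgroup.mem_zpowers s), fun hx f hf =>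
    (Subgroup.zpowers_le.2 (show s ∈ MulAction.stabilizer (F ≃ₐ[ZMod 2] F) x from hx) hf :)⟩

theorem exists_torus {A : Type u} [Group A] [Finite A] {W : Type v} [AddCommGroup W] [Finite W]
    [DistribMulAction A W] [FaithfulSMul A W] (hodd : Odd (Nat.card A)) (hsol : Group.IsSolvable A)
    (hW : ∀ w : W, w + w = 0) {n : ℕ} (hn : 2 ≤ n) (hcard : Nat.card W = 2 ^ n)
    (htrans : ∀ a b : W, a ≠ 0 → b ≠ 0 → ∃ g : A, g • a = b) : ∃ p : ℕ, Torus A W n p := by
  classical
  haveI : Fact (Nat.Prime 2) := ⟨Nat.prime_two⟩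
  haveI : Nontrivial W := by
    rw [← Finite.one_lt_card_iff_nontrivial, hcard]
    exact Nat.one_lt_two_pow (by omega)
  letI : Module (ZMod 2) W := AddCommGroup.zmodModule fun w => by rw [two_nsmul]; exact hW w
  let ρ : A →* (W ≃ₗ[ZMod 2] W) :=
    { toFun := fun g => (DistribMulAction.toAddEquiv W g).toLinearEquiv
        (fun c w => ((DistribMulAction.toAddEquiv W g).toAddMonoidHom.toZModLinearMap 2).map_smul c w)
      map_one' := by ext w; exact one_smul A w
      map_mul' := fun a b => by ext w; exact mul_smul a b w }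
  have hρ : Function.Injective ρ := fun a b e => eq_of_smul_eq_smul fun w =>
    (congrArg (fun f : W ≃ₗ[ZMod 2] W => f w) e :)
  rcases Cfsg.Agent.S3360.result 2 hsol ρ hρ (fun a b ha hb => htrans a b ha hb) with h | h
  swap
  · exfalso
    rw [hcard] at h
    have h2 : 2 ∣ 2 ^ n := dvd_pow_self 2 (by omega)
    simp only [Set.mem_insert_iff, Set.mem_singleton_iff] at h
    omega
  obtain ⟨F, iF, iFt, e, he⟩ := h
  have hF : Nat.card F = 2 ^ n := by rw [← Nat.card_congr e.toEquiv, hcard]
  haveI : CharP F 2 := CharP.ringChar_of_prime_eq_zero (R := F) Nat.prime_two (by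
    obtain ⟨w, hw⟩ := e.surjective 1
    have := congrArg e (hW w)
    rw [map_add, map_zero, hw] at this
    push_cast
    rw [← this]; ring) |> fun h => CharP.congr (ringChar F) h
  letI : Algebra (ZMod 2) F := ZMod.algebra F 2
  choose a σ hσ using he
  have hact : ∀ g v, e (g • v) = a g * σ g (e v) := hσ
  have ha : ∀ g, a g = e (g • e.symm 1) := fun g => by rw [hact, e.apply_symm_apply, map_one, mul_one]
  have ha0 : ∀ g, a g ≠ 0 := fun g h0 => by
    have h1 : e (g • e.symm 1) = 0 := by rw [← ha, h0]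
    have h2 : g • e.symm 1 = 0 := e.injective (by rw [h1, map_zero])
    rw [smul_eq_zero_iff_eq] at h2
    exact one_ne_zero (show (1 : F) = 0 by rw [← e.apply_symm_apply 1, h2, map_zero])
  let toAlg : (F ≃+* F) → (F ≃ₐ[ZMod 2] F) := fun s =>
    AlgEquiv.ofRingEquiv (f := s) fun c => RingHom.congr_fun
      (RingHom.ext_zmod ((s : F →+* F).comp (algebraMap (ZMod 2) F)) (algebraMap (ZMod 2) F)) c
  let τ : A →* (F ≃ₐ[ZMod 2] F) :=
    MonoidHom.mk' (fun g => toAlg (σ g)) fun g h => by
      have hmul : a (g * h) = a g * σ g (a h) := by rw [ha, mul_smul, hact, ← ha]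
      refine AlgEquiv.ext fun x => ?_
      obtain ⟨v, rfl⟩ := e.surjective x
      have h1 : e ((g * h) • v) = a g * σ g (a h * σ h (e v)) := by rw [mul_smul, hact, hact]
      rw [hact, map_mul, ← mul_assoc, ← hmul] at h1
      exact mul_left_cancel₀ (ha0 _) h1
  have hτ : ∀ g v, e (g • v) = a g * τ g (e v) := hact
  -- scalars
  have hscal : ∀ g, τ g = 1 → g ≠ 1 → ∀ w : W, g • w = w → w = 0 := by
    intro g hg hg1 w hw
    by_contra hw0
    apply hg1
    have h1 : a g * e w = e w := by
      have := hτ g w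
      rw [hw, hg, AlgEquiv.one_apply] at this
      exact this.symm
    have ha1 : a g = 1 := (mul_eq_right₀ (fun h0 => hw0 (e.injective (by rw [h0, map_zero])))).1 h1
    refine eq_of_smul_eq_smul fun v : W => e.injective ?_
    rw [hτ, hg, AlgEquiv.one_apply, ha1, one_mul, one_smul]
  have hn' : Module.finrank (ZMod 2) F = n := by
    have := Module.natCard_eq_pow_finrank (K := ZMod 2) (V := F)
    rw [hF, Nat.card_zmod] at this
    exact (Nat.pow_right_injective le_rfl this).symm
  have hgal : Nat.card (F ≃ₐ[ZMod 2] F) = n := by rw [IsGalois.card_aut_eq_finrank, hn']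
  -- the order of `τ g` and its fixed field
  have hfield : ∀ s : F ≃ₐ[ZMod 2] F, ∃ k : ℕ, Nat.card {x : F // s x = x} = 2 ^ k ∧ n = k * orderOf s := by
    intro s
    set K := IntermediateField.fixedField (Subgroup.zpowers s) with hK
    refine ⟨Module.finrank (ZMod 2) K, ?_, ?_⟩
    · have h1 := Module.natCard_eq_pow_finrank (K := ZMod 2) (V := K)
      rw [Nat.card_zmod] at h1
      rw [← h1]
      exact Nat.card_congr (Equiv.subtypeEquivRight fun x => (mem_fixedField_zpowers s x).symm)
    · rw [← Nat.card_zpowers, ← IntermediateField.finrank_fixedField_eq_card, ← hK,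
        Module.finrank_mul_finrank, hn']
  obtain ⟨p, hp, hpd, hpn, hthree, hgood⟩ := exists_good_prime hn
  haveI := Fact.mk hp
  have hτp : ∀ g : A, (∃ k : ℕ, g ^ p ^ k = 1) → τ g = 1 := by
    rintro g ⟨k, hk⟩
    rw [← orderOf_eq_one_iff]
    have h1 : orderOf (τ g) ∣ p ^ k := orderOf_dvd_of_pow_eq_one (by rw [← map_pow, hk, map_one])
    have h2 : orderOf (τ g) ∣ n := hgal ▸ orderOf_dvd_natCard _
    exact Nat.eq_one_of_dvd_coprimes ((hp.coprime_iff_not_dvd.2 hpn).pow_left k) h1 h2
  have hfpf : ∀ g : A, (∃ k : ℕ, g ^ p ^ k = 1) → g ≠ 1 → ∀ w : W, g • w = w → w = 0 :=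
    fun g hg => hscal g (hτp g hg)
  -- the scalar subgroup is cyclic
  let S0 := τ.ker
  let χ : ↥S0 →* Fˣ := MonoidHom.mk' (fun g => Units.mk0 (a g) (ha0 _)) fun g h => Units.ext (by
    show a ((g : A) * (h : A)) = a g * a h
    rw [ha, mul_smul, hτ, ← ha, MonoidHom.mem_ker.1 g.2, AlgEquiv.one_apply])
  have hχ : Function.Injective χ := by
    rw [injective_iff_map_eq_one]
    intro g hg
    have h1 : a (g : A) = 1 := congrArg Units.val hg
    refine Subtype.ext (eq_of_smul_eq_smul fun v : W => e.injective ?_)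
    rw [hτ, MonoidHom.mem_ker.1 g.2, AlgEquiv.one_apply, h1, one_mul, Subgroup.coe_one, one_smul]
  haveI : IsCyclic ↥S0 := isCyclic_of_subgroup_isDomain ((Units.coeHom F).comp χ)
    (Units.val_injective.comp hχ)
  obtain ⟨P⟩ : Nonempty (Sylow p A) := inferInstance
  have hPS : (P : Subgroup A) ≤ S0 := fun x hx => by
    obtain ⟨k, hk⟩ := P.2 ⟨x, hx⟩
    exact MonoidHom.mem_ker.2 (hτp x ⟨k, congrArg Subtype.val hk⟩)
  have hPmem : ∀ g : A, g ∈ (P : Subgroup A) ↔ ∃ k : ℕ, g ^ p ^ k = 1 := by
    intro g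
    refine ⟨fun hg => (P.2 ⟨g, hg⟩).imp fun _ hk => congrArg Subtype.val hk, fun hg => ?_⟩
    obtain ⟨k, hk⟩ := hg
    have hgS : g ∈ S0 := MonoidHom.mem_ker.2 (hτp g ⟨k, hk⟩)
    have hS : (P : Subgroup A) ⊔ Subgroup.zpowers g ≤ S0 := sup_le hPS (Subgroup.zpowers_le.2 hgS)
    letI : CommGroup ↥S0 := IsCyclic.commGroup
    have hP' : IsPGroup p ↥((P : Subgroup A) ⊔ Subgroup.zpowers g) := by
      refine IsPGroup.to_sup_of_normal_right' P.2 ?_ ?_
      · rintro ⟨y, hy⟩
        obtain ⟨i, rfl⟩ := Subgroup.mem_zpowers_iff.1 hy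
        exact ⟨k, Subtype.ext (by
          show (g ^ i) ^ p ^ k = 1
          rw [← zpow_natCast, ← zpow_mul, mul_comm, zpow_mul, zpow_natCast, hk, one_zpow])⟩
      · intro y hy
        refine Subgroup.mem_normalizer_iff.2 fun z => ?_
        have hcom : ∀ z ∈ Subgroup.zpowers g, y * z * y⁻¹ = z := fun z hz => by
          have := mul_comm (⟨y, hPS hy⟩ : ↥S0) ⟨z, (Subgroup.zpowers_le.2 hgS) hz⟩
          rw [show y * z = z * y from congrArg Subtype.val this, mul_inv_cancel_right]
        refine ⟨fun hz => (hcom z hz).symm ▸ hz, fun hz => ?_⟩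
        have := hcom _ hz
        have e1 : y * z * y⁻¹ = z := by
          calc y * z * y⁻¹ = y⁻¹ * (y * (y * z * y⁻¹) * y⁻¹) * y := by group
            _ = z := by rw [this]; group
        rwa [e1] at hz
    rw [← P.3 hP' le_sup_left]
    exact Subgroup.mem_sup_right (Subgroup.mem_zpowers g)
  have hPn : (P : Subgroup A).Normal := ⟨fun x hx g => (hPmem _).2 (by
    obtain ⟨k, hk⟩ := (hPmem x).1 hx
    exact ⟨k, by rw [conj_pow, hk, mul_one, mul_inv_cancel]⟩)⟩
  -- its order
  have hPcard : Nat.card (P : Subgroup A) = p ^ (2 ^ n - 1).factorization p := by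
    obtain ⟨w, hw⟩ := exists_ne (0 : W)
    have hm : 2 ^ n - 1 ∣ Nat.card A := by
      have horb : MulAction.orbit A w = {0}ᶜ := by
        ext v
        refine ⟨?_, fun hv => htrans w v hw hv⟩
        rintro ⟨g, rfl⟩
        exact fun h0 => hw ((smul_eq_zero_iff_eq g).1 h0)
      have h1 := Nat.card_congr (MulAction.orbitEquivQuotientStabilizer A w)
      rw [horb, ← Subgroup.index, Nat.card_coe_set_eq, Set.ncard_compl, Set.ncard_singleton, hcard] at h1
      rw [h1]
      exact Subgroup.index_dvd_card _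
    have hA : (Nat.card A).factorization p ≥ (2 ^ n - 1).factorization p :=
      (Nat.factorization_le_iff_dvd (by have := Nat.one_lt_two_pow (show n ≠ 0 by omega); omega) Nat.card_pos.ne').2 hm p
    have hdiv : Nat.card (P : Subgroup A) ∣ 2 ^ n - 1 := by
      letI : MulAction ↥(P : Subgroup A) {v : W // v ≠ 0} :=
        { smul := fun g v => ⟨(g : A) • v.1, fun h0 => v.2 ((smul_eq_zero_iff_eq (g : A)).1 h0)⟩
          one_smul := fun v => Subtype.ext (one_smul A v.1)
          mul_smul := fun g h v => Subtype.ext (mul_smul (g : A) h v.1) }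
      have hfree : ∀ v : {v : W // v ≠ 0}, MulAction.stabilizer ↥(P : Subgroup A) v = ⊥ := fun v => by
        rw [eq_bot_iff]
        intro g hg
        by_contra hg1
        exact v.2 (hfpf g ((hPmem _).1 g.2) (fun h1 => hg1 (Subtype.ext h1)) v.1 (congrArg Subtype.val hg))
      have h2 := Nat.card_congr (MulAction.selfEquivSigmaOrbits' ↥(P : Subgroup A) {v : W // v ≠ 0})
      haveI : Fintype (MulAction.orbitRel.Quotient ↥(P : Subgroup A) {v : W // v ≠ 0}) := Fintype.ofFinite _
      have h3 : Nat.card {v : W // v ≠ 0} = 2 ^ n - 1 := by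
        rw [show Nat.card {v : W // v ≠ 0} = Nat.card ↥({0}ᶜ : Set W) from rfl, Nat.card_coe_set_eq,
          Set.ncard_compl, Set.ncard_singleton, hcard]
      rw [← h3, h2, Nat.card_sigma]
      refine Finset.dvd_sum fun ω _ => ?_
      have h4 : Nat.card ω.orbit = Nat.card (P : Subgroup A) := by
        induction ω using Quotient.inductionOn' with
        | h v =>
          rw [MulAction.orbitRel.Quotient.orbit_mk, Nat.card_congr (MulAction.orbitEquivQuotientStabilizer _ v),
            hfree v]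
          exact Nat.card_congr QuotientGroup.quotientBot.toEquiv
      rw [h4]
    rw [Sylow.card_eq_multiplicity] at hdiv ⊢
    refine le_antisymm (Nat.le_of_dvd (pow_pos hp.pos _) ?_) (Nat.pow_le_pow_right hp.pos hA)
    exact pow_dvd_pow p ((hp.pow_dvd_iff_le_factorization (by
      have := Nat.one_lt_two_pow (show n ≠ 0 by omega); omega)).1 hdiv)
  refine ⟨p, hp, hpd, ⟨P, hPn, ?_, hPmem, hPcard⟩, hfpf, ?_, hthree, ?_⟩
  · exact isCyclic_of_injective (Subgroup.inclusion hPS) (Subgroup.inclusion_injective hPS)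
  · intro g c hc hgc hg1
    have hcP : ∃ k : ℕ, c ^ p ^ k = 1 := ⟨_, by rw [← hc]; exact pow_orderOf_eq_one c⟩
    refine hscal g ?_ hg1
    obtain ⟨k, hk, hnk⟩ := hfield (τ g)
    -- `a c` is fixed by `τ g`
    have hfix : τ g (a c) = a c := by
      have h1 : e ((g * c) • e.symm 1) = a g * τ g (a c) := by rw [mul_smul, hτ, ← ha]
      rw [hgc, mul_smul, hτ, ← ha, hτp c hcP, AlgEquiv.one_apply, mul_comm (a c)] at h1
      exact (mul_left_cancel₀ (ha0 g) h1).symm
    have hodd' : Odd (orderOf (τ g)) :=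
      Odd.of_dvd_nat hodd ((orderOf_map_dvd τ g).trans (orderOf_dvd_natCard g))
    have hdvd : p ∣ 2 ^ k - 1 := by
      have hord : orderOf (a c) ∣ 2 ^ k - 1 := by
        set K := IntermediateField.fixedField (Subgroup.zpowers (τ g))
        have hmem : a c ∈ K := (mem_fixedField_zpowers _ _).2 hfix
        have hK : Nat.card K = 2 ^ k := by
          rw [← hk]
          exact Nat.card_congr (Equiv.subtypeEquivRight fun x => mem_fixedField_zpowers _ x)
        haveI : Fintype K := Fintype.ofFinite K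
        refine orderOf_dvd_of_pow_eq_one ?_
        have h1 := FiniteField.pow_card_sub_one_eq_one (⟨a c, hmem⟩ : K)
          (fun h0 => ha0 c (congrArg Subtype.val h0))
        rw [← Nat.card_eq_fintype_card, hK] at h1
        simpa using congrArg Subtype.val h1
      have hc1 : orderOf (a c) = orderOf c := by
        have hcS : c ∈ S0 := MonoidHom.mem_ker.2 (hτp c hcP)
        rw [show a c = ((Units.coeHom F).comp χ) ⟨c, hcS⟩ from rfl,
          orderOf_injective _ (Units.val_injective.comp hχ), Subgroup.orderOf_mk]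
      rw [hc1, hc] at hord
      exact (dvd_pow_self p (hp.factorization_pos_of_dvd (by
        have := Nat.one_lt_two_pow (show n ≠ 0 by omega); omega) hpd).ne').trans hord
    have hk0 : 0 < k := Nat.pos_of_ne_zero fun h0 => by rw [h0, zero_mul] at hnk; omega
    have hkn := hgood k (Dvd.intro _ hnk.symm) hdvd (by rwa [hnk, Nat.mul_div_cancel_left _ hk0])
    have h2 := hnk
    rw [hkn] at h2
    exact orderOf_eq_one_iff.1 (Nat.eq_of_mul_eq_mul_left (show 0 < n by omega) (h2.symm.trans (mul_one n).symm))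
  · intro g r j hr hgr w hw hgw
    obtain ⟨k, hk, hnk⟩ := hfield (τ g)
    obtain ⟨i, -, hi⟩ := (Nat.dvd_prime_pow hr).1
      (orderOf_dvd_of_pow_eq_one (show τ g ^ r ^ j = 1 by rw [← map_pow, hgr, map_one]))
    refine ⟨k, ?_, i, hi ▸ hnk⟩
    rw [← hk]
    have he0 : e w ≠ 0 := fun h0 => hw (e.injective (by rw [h0, map_zero]))
    have hag : a g * τ g (e w) = e w := by rw [← hτ, hgw]
    refine Nat.card_congr (Equiv.subtypeEquiv (e.toEquiv.trans (Equiv.mulRight₀ (e w)⁻¹ (inv_ne_zero he0)))
      fun v => ?_)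
    show g • v = v ↔ τ g (e v * (e w)⁻¹) = e v * (e w)⁻¹
    rw [← e.injective.eq_iff, hτ, map_mul, map_inv₀]
    have h0 : τ g (e w) ≠ 0 := fun h0 => he0 (by rw [← hag, h0, mul_zero])
    constructor
    · intro h1
      calc τ g (e v) * (τ g (e w))⁻¹ = (a g * τ g (e v)) * (a g * τ g (e w))⁻¹ := by
            rw [mul_inv]; field_simp [ha0 g]
        _ = e v * (e w)⁻¹ := by rw [h1, hag]
    · intro h1
      calc a g * τ g (e v) = a g * (τ g (e v) * (τ g (e w))⁻¹) * τ g (e w) := by field_simp
        _ = (a g * τ g (e w)) * (e v * (e w)⁻¹) := by rw [h1]; ring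
        _ = e v := by rw [hag]; field_simp

end Cfsg.Agent.SETwoClosed
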