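import Mathlib
import Cfsg.Agent.S0205
import Cfsg.Agent.Lib.SETwoClosed.Basic
import Cfsg.Agent.Lib.SETwoClosed.Linear

/-!
# Strongly embedded subgroups with a normal Sylow 2-subgroup: the action on the involutions

The prime `p` and what the image of a point stabilizer on the involutions fixing the point satisfies.
-/

set_option autoImplicit false
set_option linter.style.haveILetI false
set_option linter.unusedSectionVars false

namespace Cfsg.Agent.SETwoClosed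

open Subgroup MulAction
open Cfsg.Agent.Involutions

universe u

variable {G : Type u} [Group G] {H : Subgroup G}

/-- The `p`-part of `2 ^ n - 1`. -/
def pPart (n p : ℕ) : ℕ := p ^ (2 ^ n - 1).factorization p

/-- The prime and its properties at every point. -/
structure Par (H : Subgroup G) (n p : ℕ) : Prop where
  hyp : Hyp H
  two_le : 2 ≤ n
  card_W : ∀ x : G ⧸ H, Nat.card ↥(Wx x) = 2 ^ n
  prime : p.Prime
  dvd : p ∣ 2 ^ n - 1
  fpf : ∀ (x : G ⧸ H) (g : G), g • x = x → (∃ k : ℕ, g ^ p ^ k ∈ Ux x) → g ∉ Ux x →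
    ∀ w ∈ Wx x, Commute g w → w = 1
  index : ∀ (x : G ⧸ H) (R : Subgroup G), R ≤ stabilizer G x → IsPGroup p ↥R →
    ((Ux x).subgroupOf R).index ∣ pPart n p ∧ ∃ g ∈ R, R ≤ (R ⊓ Ux x) ⊔ zpowers g
  index_sylow : ∀ (x y : G ⧸ H), x ≠ y → ∀ T : Sylow p ↥(stabilizer G x ⊓ stabilizer G y),
    ((Ux x).subgroupOf ((T : Subgroup ↥(stabilizer G x ⊓ stabilizer G y)).map
      (stabilizer G x ⊓ stabilizer G y).subtype)).index = pPart n p
  comm : ∀ (x : G ⧸ H) (g c : G), g • x = x → c • x = x → (∃ k : ℕ, c ^ p ^ k ∈ Ux x) →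
    ∃ k : ℕ, (g * c * g⁻¹ * c⁻¹) ^ p ^ k ∈ Ux x
  fpf_cent : ∀ (x : G ⧸ H) (g c : G), g • x = x → c • x = x →
    (∀ j : ℕ, c ^ j ∈ Ux x ↔ pPart n p ∣ j) → g * c * g⁻¹ * c⁻¹ ∈ Ux x → g ∉ Ux x →
    ∀ w ∈ Wx x, Commute g w → w = 1
  fixed : ∀ (x : G ⧸ H) (g : G) (r j : ℕ), g • x = x → r.Prime → g ^ r ^ j ∈ Ux x →
    (∃ w ∈ Wx x, w ≠ 1 ∧ Commute g w) →
    ∃ k i : ℕ, Nat.card ↥(centralizer ({g} : Set G) ⊓ Wx x) = 2 ^ k ∧ n = k * r ^ i

variable [Finite G]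

/-- The action of the stabilizer of `x` on `Wx x`. -/
noncomputable def actW (x : G ⧸ H) : ↥(stabilizer G x) →* MulAut ↥(Wx x) :=
  (normalizerMonoidHom (Wx x)).comp (inclusion (stab_le_normalizer_Wx x))

theorem actW_apply (x : G ⧸ H) (g : ↥(stabilizer G x)) (w : ↥(Wx x)) :
    ((actW x g w : ↥(Wx x)) : G) = g * w * (g : G)⁻¹ := rfl

theorem actW_ker (x : G ⧸ H) : (actW x).ker = (Ux x).subgroupOf (stabilizer G x) := by
  ext g
  rw [MonoidHom.mem_ker, mem_subgroupOf, mem_Ux]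
  constructor
  · intro hg
    refine ⟨g.2, fun w hw => ?_⟩
    have := congrArg (fun φ : MulAut ↥(Wx x) => ((φ ⟨w, hw⟩ : ↥(Wx x)) : G)) hg
    rw [actW_apply, MulAut.one_apply] at this
    exact (mul_inv_eq_iff_eq_mul.1 this).symm
  · intro hg
    refine MulEquiv.ext fun w => Subtype.ext ?_
    rw [actW_apply, MulAut.one_apply, mul_inv_eq_iff_eq_mul]
    exact (hg.2 w w.2).symm

theorem Hyp.card_Wx (h : Hyp H) : ∃ n : ℕ, 2 ≤ n ∧ ∀ x : G ⧸ H, Nat.card ↥(Wx x) = 2 ^ n := by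
  haveI : Fact (Nat.Prime 2) := ⟨Nat.prime_two⟩
  obtain ⟨n, hn⟩ := IsPGroup.iff_card.1 ((h.isPGroup_Sx (base H)).to_le (Wx_le_Sx (base H)))
  refine ⟨n, ?_, fun x => ?_⟩
  · obtain ⟨a, ha, b, hb, ha2, hb2, hab, -⟩ := h.four
    have hm : ∀ e ∈ H, orderOf e = 2 → e ∈ Wx (base H) := fun e he he2 =>
      h.mem_Wx.2 ⟨smul_base_iff.2 he, Basic.inv_sq_one he2⟩
    by_contra hlt
    have h2 : Nat.card ↥(Wx (base H)) ≤ 2 := by
      rw [hn]
      exact (Nat.pow_le_pow_right (by norm_num) (show n ≤ 1 by omega)).trans (by norm_num)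
    have hsub : ({1, a, b} : Set G) ⊆ (Wx (base H) : Set G) := by
      rintro e (rfl | rfl | rfl)
      exacts [one_mem _, hm _ ha ha2, hm _ hb hb2]
    have h3 := Set.ncard_le_ncard hsub (Set.toFinite _)
    rw [Set.ncard_eq_three.2 ⟨1, a, b, fun e => Basic.ne_one ha2 e.symm, fun e => Basic.ne_one hb2 e.symm, hab, rfl⟩,
      ← Nat.card_coe_set_eq] at h3
    exact absurd h3 (not_le.2 (Nat.lt_succ_of_le h2))
  · obtain ⟨g, rfl⟩ := exists_smul_base x
    rw [← hn]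
    exact Nat.card_congr
      { toFun := fun w => ⟨g⁻¹ * w * g, Wx_conj' w.2⟩
        invFun := fun w => ⟨g * w * g⁻¹, Wx_conj w.2⟩
        left_inv := fun w => Subtype.ext (show g * (g⁻¹ * w * g) * g⁻¹ = w by group)
        right_inv := fun w => Subtype.ext (show g⁻¹ * (g * w * g⁻¹) * g = w by group) }

theorem Hyp.odd_actW (h : Hyp H) (x : G ⧸ H) : Odd (Nat.card (actW x).range) := by
  by_contra hodd
  rw [Nat.not_odd_iff_even] at hodd
  obtain ⟨φ, ⟨g, rfl⟩, hg⟩ := StronglyEmbedded.exists_involution_mem hodd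
  -- an element of odd order with the same image
  set o := orderOf g
  obtain ⟨e, m, hm, hom⟩ := Nat.exists_eq_two_pow_mul_odd (orderOf_pos g).ne'
  have h1 : actW x (g ^ m) = 1 := by
    rw [← MonoidHom.mem_ker, actW_ker, mem_subgroupOf]
    refine h.Sx_le_Ux x (h.mem_Sx.2 ⟨(g ^ m).2, e, ?_⟩)
    rw [← SubgroupClass.coe_pow, ← pow_mul, mul_comm, ← hom, pow_orderOf_eq_one, OneMemClass.coe_one]
  rw [map_pow, ← orderOf_dvd_iff_pow_eq_one, hg] at h1
  exact Nat.not_even_iff_odd.2 hm (even_iff_two_dvd.2 h1)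

theorem Hyp.exists_par (h : Hyp H) : ∃ n p : ℕ, Par H n p := by
  classical
  obtain ⟨n, hn, hW⟩ := h.card_Wx
  -- choose the prime at the base point and transport by conjugation
  set x0 := base H
  set A := (actW x0).range
  letI : CommGroup ↥(Wx x0) :=
    { (inferInstance : Group ↥(Wx x0)) with mul_comm := fun a b => Subtype.ext (h.Wx_comm a.2 b.2) }
  letI : DistribMulAction ↥A (Additive ↥(Wx x0)) :=
    { smul := fun φ w => Additive.ofMul ((φ : MulAut ↥(Wx x0)) (Additive.toMul w))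
      one_smul := fun w => rfl
      mul_smul := fun φ ψ w => rfl
      smul_zero := fun φ => congrArg Additive.ofMul (map_one (φ : MulAut ↥(Wx x0)))
      smul_add := fun φ v w => congrArg Additive.ofMul (map_mul (φ : MulAut ↥(Wx x0)) _ _) }
  haveI : FaithfulSMul ↥A (Additive ↥(Wx x0)) := ⟨fun {φ ψ} e => Subtype.ext (MulEquiv.ext fun w =>
    Additive.ofMul.injective (e (Additive.ofMul w)))⟩
  have hodd := h.odd_actW x0
  have htrans : ∀ a b : Additive ↥(Wx x0), a ≠ 0 → b ≠ 0 → ∃ φ : ↥A, φ • a = b := by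
    intro a b ha hb
    obtain ⟨y, hy⟩ : ∃ y, y ≠ x0 := by
      obtain ⟨u, hu, hu2⟩ := StronglyEmbedded.exists_involution_notMem h.se
      exact ⟨u • x0, fun e => hu (smul_base_iff.1 e)⟩
    obtain ⟨d, hd, hde⟩ := h.exists_conj_D (Ne.symm hy) (Additive.toMul a).2
      (fun e => ha (by rw [← ofMul_toMul a, Subtype.ext (a1 := Additive.toMul a) (a2 := 1) e]; rfl))
      (Additive.toMul b).2
      (fun e => hb (by rw [← ofMul_toMul b, Subtype.ext (a1 := Additive.toMul b) (a2 := 1) e]; rfl))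
    exact ⟨⟨_, ⟨d, (mem_inf.1 hd).1⟩, rfl⟩, congrArg Additive.ofMul (Subtype.ext (p := (· ∈ Wx x0)) hde)⟩
  obtain ⟨p, hT⟩ := exists_torus hodd (Cfsg.Agent.S0205.result hodd)
    (fun w => congrArg Additive.ofMul (Subtype.ext ((h.mem_Wx.1 (Additive.toMul w).2).2)))
    hn (show Nat.card (Additive ↥(Wx x0)) = 2 ^ n from hW x0) htrans
  haveI := Fact.mk hT.prime
  obtain ⟨P, hPn, hPc, hPmem, hPcard⟩ := hT.cyclic
  haveI := hPn
  -- the image at `x0`
  let img : ∀ g : G, g • x0 = x0 → ↥A := fun g hg => ⟨actW x0 ⟨g, hg⟩, ⟨g, hg⟩, rfl⟩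
  have img_one : ∀ g hg, img g hg = 1 ↔ g ∈ Ux x0 := fun g hg => by
    rw [← Subtype.coe_inj]
    show actW x0 ⟨g, hg⟩ = 1 ↔ _
    rw [← MonoidHom.mem_ker, actW_ker]; rfl
  have img_pow : ∀ g hg (j : ℕ), (img g hg) ^ j = img (g ^ j)
      (mem_stabilizer_iff.1 (pow_mem (mem_stabilizer_iff.2 hg) j)) := fun g hg j => by
    apply Subtype.ext
    rw [SubgroupClass.coe_pow]
    show (actW x0 ⟨g, hg⟩) ^ j = actW x0 ⟨g ^ j, _⟩
    rw [← map_pow]; rfl
  have img_fix : ∀ g hg w (hw : w ∈ Wx x0),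
      img g hg • Additive.ofMul (⟨w, hw⟩ : ↥(Wx x0)) = Additive.ofMul ⟨w, hw⟩ ↔ Commute g w := fun g hg w hw =>
    ⟨fun e => mul_inv_eq_iff_eq_mul.1 (congrArg (fun v => ((Additive.toMul v : ↥(Wx x0)) : G)) e),
      fun e => congrArg Additive.ofMul (Subtype.ext (show g * w * g⁻¹ = w from mul_inv_eq_iff_eq_mul.2 e.eq))⟩
  have hconj : ∀ {x : G ⧸ H} {γ g : G}, γ • x0 = x → g • x = x → (γ⁻¹ * g * γ) • x0 = x0 := by
    intro x γ g hγ hg
    rw [mul_smul, mul_smul, hγ, hg, ← hγ, inv_smul_smul]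
  have hUconj : ∀ {x : G ⧸ H} {γ g : G}, γ • x0 = x → (γ⁻¹ * g * γ ∈ Ux x0 ↔ g ∈ Ux x) := by
    intro x γ g hγ
    constructor
    · intro hg
      have := Ux_conj (g := γ) hg
      rw [hγ] at this
      simpa [mul_assoc] using this
    · intro hg
      rw [← hγ] at hg
      simpa using Ux_conj (g := γ⁻¹) hg
  have pow_conj : ∀ (γ g : G) (j : ℕ), (γ⁻¹ * g * γ) ^ j = γ⁻¹ * g ^ j * γ := fun γ g j => by
    induction j with
    | zero => simp
    | succ j ih => rw [pow_succ, pow_succ, ih]; group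
  have hfp : ∀ {φ : ↥A} {γ g w : G} {hg : (γ⁻¹ * g * γ) • x0 = x0}, φ = img _ hg →
      ∀ hw : γ⁻¹ * w * γ ∈ Wx x0, Commute g w →
      φ • Additive.ofMul (⟨_, hw⟩ : ↥(Wx x0)) = Additive.ofMul ⟨_, hw⟩ := by
    rintro _ γ g w hg rfl hw hgw
    refine (img_fix _ hg _ hw).2 ?_
    show γ⁻¹ * g * γ * (γ⁻¹ * w * γ) = γ⁻¹ * w * γ * (γ⁻¹ * g * γ)
    calc γ⁻¹ * g * γ * (γ⁻¹ * w * γ) = γ⁻¹ * (g * w) * γ := by group
      _ = γ⁻¹ * (w * g) * γ := by rw [hgw.eq]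
      _ = _ := by group
  refine ⟨n, p, h, hn, hW, hT.prime, hT.dvd, ?_, ?_, ?_, ?_, ?_, ?_⟩
  · rintro x g hg ⟨k, hk⟩ hgU w hw hgw
    obtain ⟨γ, hγ⟩ := exists_smul_base x
    have hw0 : γ⁻¹ * w * γ ∈ Wx x0 := Wx_conj' (hγ.symm ▸ hw)
    have h1 := hT.fpf (img _ (hconj hγ hg)) ⟨k, by
        rw [img_pow, img_one, pow_conj, hUconj hγ]; exact hk⟩
      (by rw [Ne, img_one, hUconj hγ]; exact hgU) _ (hfp rfl hw0 hgw)
    have h2 : γ⁻¹ * w * γ = 1 := congrArg (fun v => ((Additive.toMul v : ↥(Wx x0)) : G)) h1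
    calc w = γ * (γ⁻¹ * w * γ) * γ⁻¹ := by group
      _ = 1 := by rw [h2]; group
  · intro x R hR hRp
    obtain ⟨γ, hγ⟩ := exists_smul_base x
    -- the image of `R`
    let f : ↥R →* ↥A := MonoidHom.mk' (fun r => img _ (hconj hγ (hR r.2))) fun a b => Subtype.ext (by
      show actW x0 ⟨_, _⟩ = actW x0 ⟨_, _⟩ * actW x0 ⟨_, _⟩
      rw [← map_mul]
      congr 1
      exact Subtype.ext (show γ⁻¹ * (a * b : G) * γ = (γ⁻¹ * a * γ) * (γ⁻¹ * b * γ) by group))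
    have hker : f.ker = (Ux x).subgroupOf R := by
      ext r
      rw [MonoidHom.mem_ker, mem_subgroupOf]
      show img _ _ = 1 ↔ _
      rw [img_one, hUconj hγ]
    have hrange : f.range ≤ P := by
      rintro _ ⟨r, rfl⟩
      obtain ⟨k, hk⟩ := hRp r
      exact (hPmem _).2 ⟨k, by rw [← map_pow, hk, map_one]⟩
    refine ⟨?_, ?_⟩
    · rw [← hker, index_ker]
      exact (card_dvd_of_le hrange).trans (dvd_of_eq hPcard)
    · haveI : IsCyclic ↥f.range :=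
        isCyclic_of_injective (inclusion hrange) (inclusion_injective hrange)
      obtain ⟨⟨φ, r, hr⟩, hgen⟩ := IsCyclic.exists_generator (α := ↥f.range)
      refine ⟨r, r.2, fun s hs => ?_⟩
      obtain ⟨i, hi⟩ := mem_zpowers_iff.1 (hgen ⟨f ⟨s, hs⟩, ⟨s, hs⟩, rfl⟩)
      have h1 : f (⟨s, hs⟩ * (r ^ i)⁻¹) = 1 := by
        rw [map_mul, map_inv, map_zpow, hr]
        have h2 : φ ^ i = f ⟨s, hs⟩ := by simpa using congrArg Subtype.val hi
        rw [h2, mul_inv_cancel]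
      rw [← MonoidHom.mem_ker, hker, mem_subgroupOf] at h1
      have : s = (((⟨s, hs⟩ * (r ^ i)⁻¹ : ↥R)) : G) * (r : G) ^ i := by simp
      rw [this]
      exact mul_mem (mem_sup_left (mem_inf.2 ⟨SetLike.coe_mem _, h1⟩))
        (mem_sup_right (zpow_mem (mem_zpowers _) i))
  · intro x y hxy T
    obtain ⟨γ, hγ⟩ := exists_smul_base x
    let D := stabilizer G x ⊓ stabilizer G y
    let f : ↥D →* ↥A := MonoidHom.mk' (fun r => img _ (hconj hγ (mem_inf.1 r.2).1)) fun a b => Subtype.ext (by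
      show actW x0 ⟨_, _⟩ = actW x0 ⟨_, _⟩ * actW x0 ⟨_, _⟩
      rw [← map_mul]
      congr 1
      exact Subtype.ext (show γ⁻¹ * (a * b : G) * γ = (γ⁻¹ * a * γ) * (γ⁻¹ * b * γ) by group))
    have hker : f.ker = (Ux x).subgroupOf D := by
      ext r
      rw [MonoidHom.mem_ker, mem_subgroupOf]
      show img _ _ = 1 ↔ _
      rw [img_one, hUconj hγ]
    set T0 := (T : Subgroup ↥D).map D.subtype
    have hidx : ((Ux x).subgroupOf T0).index = Nat.card ↥((T : Subgroup ↥D).map f) := by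
      rw [← MonoidHom.restrict_range, ← index_ker, MonoidHom.ker_restrict, hker]
      show (Ux x).relIndex T0 = ((Ux x).subgroupOf D).relIndex (T : Subgroup ↥D)
      rw [subgroupOf, relIndex_comap]
    rw [hidx]
    have hle : (T : Subgroup ↥D).map f ≤ P := by
      rintro _ ⟨r, hr, rfl⟩
      obtain ⟨k, hk⟩ := T.2 ⟨r, hr⟩
      exact (hPmem _).2 ⟨k, by rw [← map_pow, show r ^ p ^ k = 1 from congrArg Subtype.val hk, map_one]⟩
    refine le_antisymm ((Nat.le_of_dvd Nat.card_pos (card_dvd_of_le hle)).trans (le_of_eq hPcard)) ?_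
    -- transitivity gives full image
    obtain ⟨w, hw, hw1⟩ := h.exists_ne_one_Wx x
    have horb : ∀ v : Additive ↥(Wx x0), v ≠ 0 → ∃ d : ↥D, f d • Additive.ofMul
        (⟨_, Wx_conj' (g := γ) (hγ.symm ▸ hw)⟩ : ↥(Wx x0)) = v := by
      intro v hv
      have hv' : γ * ((Additive.toMul v : ↥(Wx x0)) : G) * γ⁻¹ ∈ Wx x := by
        have := Wx_conj (g := γ) (Additive.toMul v).2; rwa [hγ] at this
      obtain ⟨d, hd, hde⟩ := h.exists_conj_D hxy hw hw1 hv' (fun e => hv (by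
        rw [← ofMul_toMul v, Subtype.ext (a1 := Additive.toMul v) (a2 := 1) (conj_eq_one_iff.1 e)]; rfl))
      refine ⟨⟨d, hd⟩, congrArg Additive.ofMul (Subtype.ext ?_)⟩
      show γ⁻¹ * d * γ * (γ⁻¹ * w * γ) * (γ⁻¹ * d * γ)⁻¹ = _
      calc γ⁻¹ * d * γ * (γ⁻¹ * w * γ) * (γ⁻¹ * d * γ)⁻¹ = γ⁻¹ * (d * w * d⁻¹) * γ := by group
        _ = _ := by rw [hde]; group; rfl
    have hdvd : 2 ^ n - 1 ∣ Nat.card ↥f.range := by
      set w0 : Additive ↥(Wx x0) := Additive.ofMul ⟨_, Wx_conj' (g := γ) (hγ.symm ▸ hw)⟩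
      have hw0 : w0 ≠ 0 := fun e => hw1 (by
        have h2 : γ⁻¹ * w * γ = 1 := congrArg (fun v => ((Additive.toMul v : ↥(Wx x0)) : G)) e
        calc w = γ * (γ⁻¹ * w * γ) * γ⁻¹ := by group
          _ = 1 := by rw [h2]; group)
      have horb' : orbit ↥f.range w0 = {0}ᶜ := by
        ext v
        refine ⟨?_, fun hv => ?_⟩
        · rintro ⟨φ, rfl⟩
          exact fun e => hw0 ((smul_eq_zero_iff_eq (φ : ↥A)).1 e)
        · obtain ⟨d, hd⟩ := horb v hv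
          exact ⟨⟨f d, d, rfl⟩, hd⟩
      have h1 := Nat.card_congr (orbitEquivQuotientStabilizer ↥f.range w0)
      rw [horb', ← Subgroup.index, Nat.card_coe_set_eq, Set.ncard_compl, Set.ncard_singleton,
        show Nat.card (Additive ↥(Wx x0)) = 2 ^ n from hW x0] at h1
      rw [h1]
      exact index_dvd_card _
    have hS := (T.mapSurjective f.rangeRestrict_surjective)
    have hcard : Nat.card ↥((T.mapSurjective f.rangeRestrict_surjective : Sylow p ↥f.range) : Subgroup ↥f.range) =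
        Nat.card ↥((T : Subgroup ↥D).map f) := by
      rw [Sylow.coe_mapSurjective, ← card_map_of_injective f.range.subtype_injective, map_map,
        MonoidHom.subtype_comp_rangeRestrict]
    rw [← hcard, Sylow.card_eq_multiplicity]
    refine Nat.pow_le_pow_right hT.prime.pos ?_
    exact (Nat.factorization_le_iff_dvd (by have := Nat.one_lt_two_pow (show n ≠ 0 by omega); omega)
      Nat.card_pos.ne').2 hdvd p
  · intro x g c hg hc hck
    obtain ⟨γ, hγ⟩ := exists_smul_base x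
    obtain ⟨k, hk⟩ := hck
    have hmem : (γ⁻¹ * (g * c * g⁻¹ * c⁻¹) * γ) • x0 = x0 :=
      hconj hγ (by rw [mul_smul, mul_smul, mul_smul, inv_smul_eq_iff.2 hc.symm, inv_smul_eq_iff.2 hg.symm, hc, hg])
    have hP : img _ hmem ∈ P := by
      have e : img _ hmem = img _ (hconj hγ hg) * img _ (hconj hγ hc) * (img _ (hconj hγ hg))⁻¹ *
          (img _ (hconj hγ hc))⁻¹ := Subtype.ext (by
        show actW x0 ⟨_, _⟩ = actW x0 ⟨_, _⟩ * actW x0 ⟨_, _⟩ * (actW x0 ⟨_, _⟩)⁻¹ * (actW x0 ⟨_, _⟩)⁻¹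
        rw [← map_inv, ← map_inv, ← map_mul, ← map_mul, ← map_mul]
        congr 1
        exact Subtype.ext (show γ⁻¹ * (g * c * g⁻¹ * c⁻¹) * γ =
          γ⁻¹ * g * γ * (γ⁻¹ * c * γ) * (γ⁻¹ * g * γ)⁻¹ * (γ⁻¹ * c * γ)⁻¹ by group))
      have hcP : img _ (hconj hγ hc) ∈ P := (hPmem _).2 ⟨k, by rw [img_pow, img_one, pow_conj, hUconj hγ]; exact hk⟩
      rw [e]
      exact mul_mem (hPn.conj_mem _ hcP _) (inv_mem hcP)
    obtain ⟨j, hj⟩ := (hPmem _).1 hP
    exact ⟨j, by rw [← hUconj hγ, ← pow_conj]; rwa [img_pow, img_one] at hj⟩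
  · intro x g c hg hc hord hgc hgU w hw hgw
    obtain ⟨γ, hγ⟩ := exists_smul_base x
    have hw0 : γ⁻¹ * w * γ ∈ Wx x0 := Wx_conj' (hγ.symm ▸ hw)
    have hoc : orderOf (img _ (hconj hγ hc)) = p ^ (2 ^ n - 1).factorization p := by
      refine (orderOf_eq_iff (pow_pos hT.prime.pos _)).2 ⟨?_, fun j hj hj0 e => ?_⟩
      · rw [img_pow, img_one, pow_conj, hUconj hγ, hord]; exact dvd_rfl
      · rw [img_pow, img_one, pow_conj, hUconj hγ, hord] at e
        exact absurd (Nat.le_of_dvd hj0 e) (not_le.2 hj)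
    have hcomm : img _ (hconj hγ hg) * img _ (hconj hγ hc) = img _ (hconj hγ hc) * img _ (hconj hγ hg) := by
      have hmem : (γ⁻¹ * (g * c * g⁻¹ * c⁻¹) * γ) • x0 = x0 := hconj hγ (mem_stabilizer_iff.1 (Ux_le x hgc))
      have h1 := (img_one _ hmem).2 ((hUconj hγ).2 hgc)
      refine mul_inv_eq_one.1 (Eq.trans ?_ h1)
      apply Subtype.ext
      show actW x0 ⟨_, _⟩ * actW x0 ⟨_, _⟩ * (actW x0 ⟨_, _⟩ * actW x0 ⟨_, _⟩)⁻¹ = actW x0 ⟨_, _⟩
      rw [← map_mul, ← map_mul, ← map_inv, ← map_mul]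
      congr 1
      exact Subtype.ext (show γ⁻¹ * g * γ * (γ⁻¹ * c * γ) * (γ⁻¹ * c * γ * (γ⁻¹ * g * γ))⁻¹ =
        γ⁻¹ * (g * c * g⁻¹ * c⁻¹) * γ by group)
    have h1 := hT.fpf_cent _ _ hoc hcomm (by rw [Ne, img_one, hUconj hγ]; exact hgU) _ (hfp rfl hw0 hgw)
    have h2 : γ⁻¹ * w * γ = 1 := congrArg (fun v => ((Additive.toMul v : ↥(Wx x0)) : G)) h1
    calc w = γ * (γ⁻¹ * w * γ) * γ⁻¹ := by group
      _ = 1 := by rw [h2]; group
  · intro x g r j hg hr hgr hw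
    obtain ⟨w, hw, hw1, hgw⟩ := hw
    obtain ⟨γ, hγ⟩ := exists_smul_base x
    have hw0 : γ⁻¹ * w * γ ∈ Wx x0 := Wx_conj' (hγ.symm ▸ hw)
    obtain ⟨k, hk, i, hi⟩ := hT.fixed (img _ (hconj hγ hg)) r j hr
      (by rw [img_pow, img_one, pow_conj, hUconj hγ]; exact hgr) _
      (fun e => hw1 (by
        have h2 : γ⁻¹ * w * γ = 1 := congrArg (fun v => ((Additive.toMul v : ↥(Wx x0)) : G)) e
        calc w = γ * (γ⁻¹ * w * γ) * γ⁻¹ := by group
          _ = 1 := by rw [h2]; group))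
      (hfp rfl hw0 hgw)
    refine ⟨k, i, ?_, hi⟩
    rw [← hk]
    refine Nat.card_congr
      { toFun := fun v => ⟨Additive.ofMul ⟨γ⁻¹ * v.1 * γ, Wx_conj' (hγ.symm ▸ (mem_inf.1 v.2).2)⟩,
          hfp rfl (Wx_conj' (hγ.symm ▸ (mem_inf.1 v.2).2)) (mem_centralizer_singleton_iff.1 (mem_inf.1 v.2).1).symm⟩
        invFun := fun v => ⟨γ * ((Additive.toMul v.1 : ↥(Wx x0)) : G) * γ⁻¹, mem_inf.2 ⟨?_, ?_⟩⟩
        left_inv := fun v => Subtype.ext (show γ * (γ⁻¹ * v.1 * γ) * γ⁻¹ = v.1 by group)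
        right_inv := fun v => Subtype.ext (congrArg Additive.ofMul (Subtype.ext
          (show γ⁻¹ * (γ * ((Additive.toMul v.1 : ↥(Wx x0)) : G) * γ⁻¹) * γ = _ by group; rfl))) }
    · refine mem_centralizer_singleton_iff.2 ?_
      have h1 := (img_fix _ (hconj hγ hg) _ (Additive.toMul v.1).2).1 v.2
      calc γ * ((Additive.toMul v.1 : ↥(Wx x0)) : G) * γ⁻¹ * g =
          γ * (((Additive.toMul v.1 : ↥(Wx x0)) : G) * (γ⁻¹ * g * γ)) * γ⁻¹ := by group
        _ = γ * ((γ⁻¹ * g * γ) * ((Additive.toMul v.1 : ↥(Wx x0)) : G)) * γ⁻¹ := by rw [h1.eq]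
        _ = _ := by group
    · have := Wx_conj (g := γ) (Additive.toMul v.1).2
      rwa [hγ] at this

end Cfsg.Agent.SETwoClosed
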