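import Mathlib
import Cfsg.Agent.Lib.SETwoClosed.Basic

/-!
# Strongly embedded subgroups with a normal Sylow 2-subgroup: the induction hypothesis

A proper subgroup `X` with two involutions fixing the point `d` that moves `d` inherits the hypothesis, so
by induction `Sx d ⊓ X` is regular on the rest of the `X`-orbit of `d`.
-/

set_option autoImplicit false
set_option linter.style.haveILetI false
set_option linter.unusedSectionVars false

namespace Cfsg.Agent.SETwoClosed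

open Subgroup MulAction
open Cfsg.Agent.Involutions

universe u

/-- What is proved: the 2-part of the point stabilizer is transitive on the other points, and its order is
a power of the number of its elements squaring to one, with exponent at most three. -/
structure Concl {G : Type u} [Group G] (H : Subgroup G) : Prop where
  trans : ∀ y z : G ⧸ H, y ≠ base H → z ≠ base H → ∃ s ∈ Sx (base H), s • y = z
  card : ∃ i : ℕ, 1 ≤ i ∧ i ≤ 3 ∧ Nat.card ↥(Sx (base H)) = Nat.card ↥(Wx (base H)) ^ i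

/-- The theorem for all proper subgroups. -/
def IndHyp (G : Type u) [Group G] : Prop :=
  ∀ X : Subgroup G, X ≠ ⊤ → ∀ K : Subgroup ↥X, Hyp K → Concl K

variable {G : Type u} [Group G] {H : Subgroup G}

/-- The conclusion in the subgroup `X` for its orbit on `d`. -/
structure Slice (X : Subgroup G) (d : G ⧸ H) : Prop where
  trans : ∀ y ∈ orbit ↥X d, ∀ z ∈ orbit ↥X d, y ≠ d → z ≠ d → ∃ s ∈ Sx d ⊓ X, s • y = z
  card : ∃ i : ℕ, 1 ≤ i ∧ i ≤ 3 ∧ Nat.card ↥(Sx d ⊓ X) = Nat.card ↥(Wx d ⊓ X) ^ i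
  orbit_card : (orbit ↥X d).ncard = Nat.card ↥(Sx d ⊓ X) + 1
  involution : ∀ t ∈ X, orderOf t = 2 → ∃ y ∈ orbit ↥X d, t • y = y

theorem smul_mem_orbit {X : Subgroup G} {d y : G ⧸ H} {g : G} (hg : g ∈ X) (hy : y ∈ orbit ↥X d) :
    g • y ∈ orbit ↥X d := by
  obtain ⟨x, rfl⟩ := hy
  exact ⟨⟨g, hg⟩ * x, mul_smul (g : G) (x : G) d⟩

theorem mem_orbit_of {X : Subgroup G} {d : G ⧸ H} {g : G} (hg : g ∈ X) : g • d ∈ orbit ↥X d :=
  ⟨⟨g, hg⟩, rfl⟩

variable [Finite G] (h : Hyp H)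
include h

/-- Induction gives the conclusion in a proper subgroup. -/
theorem Hyp.slice (IH : IndHyp G) {X : Subgroup G} (hX : X ≠ ⊤) {d : G ⧸ H}
    (hmov : ∃ x ∈ X, x • d ≠ d) {a b : G} (haX : a ∈ X) (hbX : b ∈ X) (ha : a ∈ Wx d) (hb : b ∈ Wx d)
    (ha1 : a ≠ 1) (hb1 : b ≠ 1) (hab : a ≠ b) : Slice X d := by
  classical
  set K := stabilizer ↥X d with hKdef
  have hK : ∀ x : ↥X, x ∈ K ↔ (x : G) • d = d := fun x => Iff.rfl
  have h2 : ∀ x : ↥X, orderOf x = 2 ↔ orderOf (x : G) = 2 := fun x => by rw [Subgroup.orderOf_coe]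
  have hcoe : ∀ x : ↥X, TwoEl x ↔ TwoEl (x : G) := fun x =>
    exists_congr fun k => by rw [← Subgroup.coe_pow, OneMemClass.coe_eq_one]
  have hyp : Hyp K := by
    refine ⟨StronglyEmbedded.of_conj (fun e => ?_) ?_ ?_, fun x hx y hy hx2 hy2 => ?_, ?_⟩
    · obtain ⟨x, hx, hxd⟩ := hmov
      exact hxd ((hK ⟨x, hx⟩).1 (e ▸ mem_top _))
    · rw [even_iff_two_dvd]
      have h1 := orderOf_dvd_natCard (⟨⟨a, haX⟩, (hK ⟨a, haX⟩).2 (Wx_le d ha)⟩ : ↥K)
      rwa [Subgroup.orderOf_mk, Subgroup.orderOf_mk, h.orderOf_mem_Wx ha ha1] at h1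
    · intro t ht ht2 g hg
      have e1 : ((g : G) * t * (g : G)⁻¹) • ((g : G) • d) = (g : G) • d := conj_smul_fix ((hK t).1 ht)
      exact (hK g).2 (h.eq_of_fixed (by rw [Basic.orderOf_conj]; exact (h2 t).1 ht2) e1 ((hK _).1 hg))
    · exact (hcoe _).2 (h.mem_Sx.1 (mul_mem (h.mem_Sx.2 ⟨(hK x).1 hx, (hcoe x).1 hx2⟩)
        (h.mem_Sx.2 ⟨(hK y).1 hy, (hcoe y).1 hy2⟩))).2
    · refine ⟨⟨a, haX⟩, (hK _).2 (Wx_le d ha), ⟨b, hbX⟩, (hK _).2 (Wx_le d hb),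
        (h2 _).2 (h.orderOf_mem_Wx ha ha1), (h2 _).2 (h.orderOf_mem_Wx hb hb1),
        fun e => hab (congrArg Subtype.val e), Subtype.ext (h.Wx_comm ha hb)⟩
  have hC := IH X hX K hyp
  have hS : (Sx (base K)).map X.subtype = Sx d ⊓ X := by
    ext g
    constructor
    · rintro ⟨x, hx, rfl⟩
      obtain ⟨hx1, hx2⟩ := hyp.mem_Sx.1 hx
      exact mem_inf.2 ⟨h.mem_Sx.2 ⟨(hK x).1 (smul_base_iff.1 hx1), (hcoe x).1 hx2⟩, x.2⟩
    · intro hg
      obtain ⟨hg1, hgX⟩ := mem_inf.1 hg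
      obtain ⟨hg2, hg3⟩ := h.mem_Sx.1 hg1
      exact ⟨⟨g, hgX⟩, hyp.mem_Sx.2 ⟨smul_base_iff.2 ((hK ⟨g, hgX⟩).2 hg2), (hcoe ⟨g, hgX⟩).2 hg3⟩, rfl⟩
  have hW : (Wx (base K)).map X.subtype = Wx d ⊓ X := by
    ext g
    constructor
    · rintro ⟨x, hx, rfl⟩
      obtain ⟨hx1, hx2⟩ := hyp.mem_Wx.1 hx
      exact mem_inf.2 ⟨h.mem_Wx.2 ⟨(hK x).1 (smul_base_iff.1 hx1), congrArg Subtype.val hx2⟩, x.2⟩
    · intro hg
      obtain ⟨hg1, hgX⟩ := mem_inf.1 hg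
      obtain ⟨hg2, hg3⟩ := h.mem_Wx.1 hg1
      exact ⟨⟨g, hgX⟩, hyp.mem_Wx.2 ⟨smul_base_iff.2 ((hK ⟨g, hgX⟩).2 hg2), Subtype.ext hg3⟩, rfl⟩
  -- the points of the orbit
  let e := (orbitEquivQuotientStabilizer ↥X d).symm
  have he : ∀ g : ↥X, (e (g : ↥X ⧸ K) : G ⧸ H) = (g : G) • d := fun g =>
    orbitEquivQuotientStabilizer_symm_apply ↥X d g
  have hebase : (e (base K) : G ⧸ H) = d := by
    rw [he 1, OneMemClass.coe_one, one_smul]
  have hne : ∀ y : ↥(orbit ↥X d), (y : G ⧸ H) ≠ d → e.symm y ≠ base K := fun y hy e' => hy (by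
    rw [← e.apply_symm_apply y, e', hebase])
  have hequiv : ∀ (s : ↥X) (c : ↥X ⧸ K), (e (s • c) : G ⧸ H) = (s : G) • (e c : G ⧸ H) := by
    intro s c
    induction c using QuotientGroup.induction_on with
    | H g =>
      show (e ((s * g : ↥X) : ↥X ⧸ K) : G ⧸ H) = _
      rw [he, he, Subgroup.coe_mul, mul_smul]
  refine ⟨fun y hy z hz hyd hzd => ?_, ?_, ?_, fun t ht ht2 => ?_⟩
  · obtain ⟨s, hs, hsy⟩ := hC.trans _ _ (hne ⟨y, hy⟩ hyd) (hne ⟨z, hz⟩ hzd)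
    refine ⟨s, hS ▸ mem_map_of_mem _ hs, ?_⟩
    have := congrArg (fun c => (e c : G ⧸ H)) hsy
    simpa [hequiv] using this
  · obtain ⟨i, hi1, hi3, hi⟩ := hC.card
    refine ⟨i, hi1, hi3, ?_⟩
    rw [← hS, ← hW, card_map_of_injective X.subtype_injective, card_map_of_injective X.subtype_injective, hi]
  · obtain ⟨x, hx, hxd⟩ := hmov
    have hy0 : ((⟨x, hx⟩ : ↥X) : ↥X ⧸ K) ≠ base K := fun e' => hxd (by
      have := congrArg (fun c => (e c : G ⧸ H)) e'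
      simpa [he, hebase] using this)
    set y0 : ↥X ⧸ K := ((⟨x, hx⟩ : ↥X) : ↥X ⧸ K)
    have hfix : ∀ s ∈ Sx (base K), s • base K = base K := fun s hs => (hyp.mem_Sx.1 hs).1
    have hbij : Function.Bijective
        (fun s : ↥(Sx (base K)) => (⟨(s : ↥X) • y0, fun e' => hy0 (by
          rw [← inv_smul_smul (s : ↥X) y0, e', inv_smul_eq_iff, hfix s s.2])⟩ : {y : ↥X ⧸ K // y ≠ base K})) := by
      refine ⟨fun s t est => ?_, fun y => ?_⟩
      · have h1 : ((t : ↥X)⁻¹ * s) • y0 = y0 := by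
          rw [mul_smul, show (s : ↥X) • y0 = (t : ↥X) • y0 from congrArg Subtype.val est, inv_smul_smul]
        exact Subtype.ext (inv_mul_eq_one.1
          (hyp.eq_one_of_fix_two hy0.symm (mul_mem (inv_mem t.2) s.2) h1)).symm
      · obtain ⟨s, hs, hsy⟩ := hC.trans y0 y hy0 y.2
        exact ⟨⟨s, hs⟩, Subtype.ext hsy⟩
    rw [← Nat.card_coe_set_eq, Nat.card_congr e.symm, ← hS, card_map_of_injective X.subtype_injective,
      Nat.card_eq_of_bijective _ hbij]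
    have h1 : ({base K}ᶜ : Set (↥X ⧸ K)).ncard = Nat.card (↥X ⧸ K) - 1 := by
      rw [Set.ncard_compl, Set.ncard_singleton]
    rw [← Nat.card_coe_set_eq] at h1
    have h2 := Nat.card_pos (α := ↥X ⧸ K)
    show Nat.card (↥X ⧸ K) = Nat.card ↥({base K}ᶜ : Set (↥X ⧸ K)) + 1
    omega
  · obtain ⟨c, hc⟩ := isConj_iff.1 (StronglyEmbedded.isConj_involutions hyp.se
      (a := (⟨a, haX⟩ : ↥X)) (b := ⟨t, ht⟩) ((h2 _).2 (h.orderOf_mem_Wx ha ha1)) ((h2 _).2 ht2))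
    refine ⟨(c : G) • d, mem_orbit_of c.2, ?_⟩
    have e1 : (c : G) * a * (c : G)⁻¹ = t := congrArg Subtype.val hc
    rw [← e1]
    exact conj_smul_fix (Wx_le d ha)

/-- Fixed point free on `Wx x` gives fixed point free on `Sx x`. -/
theorem Hyp.fpf_Sx {x : G ⧸ H} {g : G} (hg : ∀ w ∈ Wx x, Commute g w → w = 1) :
    ∀ s ∈ Sx x, Commute g s → s = 1 := by
  intro s hs hgs
  by_contra h1
  obtain ⟨hsx, hs2⟩ := h.mem_Sx.1 hs
  obtain ⟨k, hk⟩ := involution_of_twoEl hs2 h1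
  exact Basic.ne_one hk (hg _ (h.mem_Wx.2 ⟨mem_stabilizer_iff.1 (pow_mem (mem_stabilizer_iff.2 hsx) k),
    Basic.inv_sq_one hk⟩) (hgs.pow_right k))

/-- An element of `X` without fixed points on `Sx d ⊓ X` fixes at most one further point of the orbit. -/
theorem Slice.fix_unique {X : Subgroup G} {d : G ⧸ H} (hS : Slice X d) {g : G} (hg : g ∈ X)
    (hgd : g • d = d) (hfpf : ∀ s ∈ Sx d ⊓ X, Commute g s → s = 1) {y z : G ⧸ H}
    (hy : y ∈ orbit ↥X d) (hz : z ∈ orbit ↥X d) (hyd : y ≠ d) (hzd : z ≠ d)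
    (hgy : g • y = y) (hgz : g • z = z) : y = z := by
  obtain ⟨s, hs, hsy⟩ := hS.trans y hy z hz hyd hzd
  have h1 : g * s * g⁻¹ ∈ Sx d ⊓ X :=
    mem_inf.2 ⟨Sx_normal hgd (mem_inf.1 hs).1, mul_mem (mul_mem hg (mem_inf.1 hs).2) (inv_mem hg)⟩
  have h2 : (s⁻¹ * (g * s * g⁻¹)) • y = y := by
    rw [mul_smul, mul_smul, mul_smul, inv_smul_eq_iff.2 hgy.symm, hsy, hgz, ← hsy, inv_smul_smul]
  have h3 := h.eq_one_of_fix_two (Ne.symm hyd) (mul_mem (inv_mem (mem_inf.1 hs).1) (mem_inf.1 h1).1) h2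
  have h4 : Commute g s := mul_inv_eq_iff_eq_mul.1 (inv_mul_eq_one.1 h3).symm
  rw [← hsy, hfpf s hs h4, one_smul]

/-- An element fixing `d` and one further point, centralizing `Sx d ⊓ X`, fixes the orbit pointwise. -/
theorem Slice.fix_all {X : Subgroup G} {d : G ⧸ H} (hS : Slice X d) {g : G} (hgd : g • d = d)
    (hcent : ∀ s ∈ Sx d ⊓ X, Commute g s) {y : G ⧸ H} (hy : y ∈ orbit ↥X d) (hyd : y ≠ d)
    (hgy : g • y = y) : ∀ z ∈ orbit ↥X d, g • z = z := by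
  intro z hz
  by_cases hzd : z = d
  · rw [hzd, hgd]
  obtain ⟨s, hs, rfl⟩ := hS.trans y hy z hz hyd hzd
  rw [← mul_smul, (hcent s hs).eq, mul_smul, hgy]

end Cfsg.Agent.SETwoClosed
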