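import Mathlib

/-!
# Strongly embedded subgroups with a normal Sylow 2-subgroup: Sylow subgroups inside a subgroup

Sylow subgroups of a subgroup `D`, seen as subgroups of the group, and the ones an involution normalizes.
-/

set_option autoImplicit false
set_option linter.style.haveILetI false
set_option linter.unusedSectionVars false

namespace Cfsg.Agent.SETwoClosed

open Subgroup MulAction

universe u

variable {G : Type u} [Group G]

/-- `R` is a maximal `p`-subgroup of `D`. -/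
def IsSyl (p : ℕ) (R D : Subgroup G) : Prop :=
  R ≤ D ∧ IsPGroup p ↥R ∧ ∀ Q : Subgroup G, R ≤ Q → Q ≤ D → IsPGroup p ↥Q → Q = R

/-- The conjugate of `R` by `g`. -/
abbrev cj (g : G) (R : Subgroup G) : Subgroup G := R.map (MulAut.conj g).toMonoidHom

theorem mem_cj {g x : G} {R : Subgroup G} : x ∈ cj g R ↔ g⁻¹ * x * g ∈ R :=
  ⟨by rintro ⟨r, hr, rfl⟩; simpa [mul_assoc] using hr,
    fun hx => ⟨_, hx, show g * (g⁻¹ * x * g) * g⁻¹ = x by group⟩⟩

theorem conj_mem_cj {g r : G} {R : Subgroup G} (hr : r ∈ R) : g * r * g⁻¹ ∈ cj g R := ⟨r, hr, rfl⟩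

theorem cj_cj (g k : G) (R : Subgroup G) : cj g (cj k R) = cj (g * k) R := by
  ext x
  simp only [mem_cj, mul_inv_rev, mul_assoc]

theorem cj_one (R : Subgroup G) : cj 1 R = R := by
  ext x
  simp [mem_cj]

theorem card_cj (g : G) (R : Subgroup G) : Nat.card ↥(cj g R) = Nat.card ↥R :=
  card_map_of_injective (MulAut.conj g).injective

theorem isPGroup_cj {p : ℕ} {R : Subgroup G} (hR : IsPGroup p ↥R) (g : G) : IsPGroup p ↥(cj g R) :=
  hR.map _

theorem cj_mono {g : G} {R Q : Subgroup G} (hle : R ≤ Q) : cj g R ≤ cj g Q := map_mono hle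

theorem cj_eq_self {g : G} {R : Subgroup G} (hg : g ∈ normalizer (R : Set G)) : cj g R = R := by
  ext x
  rw [mem_cj]
  have := (mem_normalizer_iff.1 (inv_mem hg)) x
  rw [inv_inv] at this
  exact this.symm

theorem mem_normalizer_of_cj {g : G} {R : Subgroup G} (hg : cj g R = R) : g ∈ normalizer (R : Set G) := by
  refine mem_normalizer_iff.2 fun x => ⟨fun hx => hg ▸ conj_mem_cj hx, fun hx => ?_⟩
  rw [← hg, mem_cj] at hx
  simpa [mul_assoc] using hx

theorem mem_normalizer_of_le [Finite G] {g : G} {R : Subgroup G} (hg : ∀ r ∈ R, g * r * g⁻¹ ∈ R) :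
    g ∈ normalizer (R : Set G) := mem_normalizer_fintype hg

theorem centralizer_le_normalizer (R : Subgroup G) : centralizer (R : Set G) ≤ normalizer (R : Set G) := by
  intro g hg
  refine mem_normalizer_of_cj ?_
  ext x
  rw [mem_cj]
  have key : ∀ r ∈ R, g⁻¹ * r * g = r := fun r hr => by
    rw [mul_assoc, mem_centralizer_iff.1 hg r hr, inv_mul_cancel_left]
  refine ⟨fun hx => ?_, fun hx => (key x hx).symm ▸ hx⟩
  have h1 := mem_centralizer_iff.1 hg _ hx
  rw [show x = g * (g⁻¹ * x * g) * g⁻¹ by group, ← h1, mul_inv_cancel_right]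
  exact hx

theorem cj_le_normalizer {g : G} (R : Subgroup G) {x : G} (hx : x ∈ normalizer (R : Set G)) :
    g * x * g⁻¹ ∈ normalizer (cj g R : Set G) := by
  refine mem_normalizer_of_cj ?_
  rw [cj_cj, show g * x * g⁻¹ * g = g * x by group, ← cj_cj, cj_eq_self hx]

variable [Finite G] {p : ℕ}

theorem exists_isSyl_ge {P D : Subgroup G} (hP : IsPGroup p ↥P) (hle : P ≤ D) :
    ∃ R, P ≤ R ∧ IsSyl p R D := by
  obtain ⟨R, hR, hmax⟩ := exists_maximal_ge_of_wellFoundedGT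
    (fun Q : Subgroup G => Q ≤ D ∧ IsPGroup p ↥Q) P ⟨hle, hP⟩
  exact ⟨R, hR, hmax.1.1, hmax.1.2, fun Q hRQ hQD hQ => le_antisymm (hmax.2 ⟨hQD, hQ⟩ hRQ) hRQ⟩

theorem exists_isSyl (D : Subgroup G) [Fact p.Prime] : ∃ R, IsSyl p R D := by
  obtain ⟨R, -, hR⟩ := exists_isSyl_ge (p := p) IsPGroup.of_bot (bot_le : ⊥ ≤ D)
  exact ⟨R, hR⟩

theorem IsSyl.exists_sylow {R D : Subgroup G} (hR : IsSyl p R D) :
    ∃ T : Sylow p ↥D, (T : Subgroup ↥D).map D.subtype = R := by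
  obtain ⟨T, hT⟩ := (hR.2.1.comap_subtype (K := D)).exists_le_sylow
  refine ⟨T, hR.2.2 _ (fun r hr => ⟨⟨r, hR.1 hr⟩, hT hr, rfl⟩) (map_subtype_le _) (T.2.map _)⟩

theorem isSyl_map {D : Subgroup G} (T : Sylow p ↥D) : IsSyl p ((T : Subgroup ↥D).map D.subtype) D := by
  refine ⟨map_subtype_le _, T.2.map _, fun Q hle hQD hQ => ?_⟩
  have h1 : Q.subgroupOf D = (T : Subgroup ↥D) :=
    T.3 (hQ.comap_subtype (K := D)) fun x hx => hle ⟨x, hx, rfl⟩
  rw [← h1, subgroupOf, map_comap_eq_self (by rwa [range_subtype])]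

theorem IsSyl.card_eq [Fact p.Prime] {R D : Subgroup G} (hR : IsSyl p R D) :
    Nat.card ↥R = p ^ (Nat.card ↥D).factorization p := by
  obtain ⟨T, rfl⟩ := hR.exists_sylow
  rw [card_map_of_injective D.subtype_injective, Sylow.card_eq_multiplicity]

theorem IsSyl.card_le [Fact p.Prime] {R D Q : Subgroup G} (hR : IsSyl p R D) (hQ : IsPGroup p ↥Q)
    (hQD : Q ≤ D) : Nat.card ↥Q ≤ Nat.card ↥R := by
  obtain ⟨T, hQT, hT⟩ := exists_isSyl_ge hQ hQD
  rw [hR.card_eq, ← hT.card_eq]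
  exact card_le_of_le hQT

theorem IsSyl.of_card [Fact p.Prime] {R D Q : Subgroup G} (hR : IsSyl p R D) (hQ : IsPGroup p ↥Q)
    (hQD : Q ≤ D) (hcard : Nat.card ↥R ≤ Nat.card ↥Q) : IsSyl p Q D :=
  ⟨hQD, hQ, fun T hle hTD hT => (eq_of_le_of_card_ge hle ((hR.card_le hT hTD).trans hcard)).symm⟩

theorem IsSyl.conj [Fact p.Prime] {R Q D : Subgroup G} (hR : IsSyl p R D) (hQ : IsSyl p Q D) :
    ∃ d ∈ D, cj d R = Q := by
  obtain ⟨T, rfl⟩ := hR.exists_sylow
  obtain ⟨T', rfl⟩ := hQ.exists_sylow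
  obtain ⟨d, rfl⟩ := MulAction.exists_smul_eq ↥D T T'
  refine ⟨d, d.2, ?_⟩
  rw [Sylow.coe_subgroup_smul]
  ext x
  constructor
  · rintro ⟨_, ⟨t, ht, rfl⟩, rfl⟩
    exact ⟨d * t * d⁻¹, ⟨t, ht, by simp [MulAut.smul_def]⟩, rfl⟩
  · rintro ⟨_, ⟨t, ht, rfl⟩, rfl⟩
    exact ⟨t, ⟨t, ht, rfl⟩, by simp [MulAut.smul_def]⟩

/-- In a `p`-group a proper subgroup is normalized by an element outside it. -/
theorem exists_mem_normalizer [Fact p.Prime] {R Q : Subgroup G} (hR : IsPGroup p ↥R) (hlt : Q < R) :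
    ∃ g ∈ R, g ∉ Q ∧ g ∈ normalizer (Q : Set G) := by
  haveI := hR.isNilpotent
  have hne : Q.subgroupOf R < ⊤ := lt_top_iff_ne_top.2 fun e => hlt.not_ge (subgroupOf_eq_top.1 e)
  obtain ⟨g, hg, hgQ⟩ := SetLike.exists_of_lt (normalizerCondition_of_isNilpotent _ hne)
  refine ⟨g, g.2, hgQ, mem_normalizer_of_le fun r hr => ?_⟩
  exact ((mem_normalizer_iff.1 hg) ⟨r, hlt.le hr⟩).1 hr

/-- A `p`-group with an invariant set has as many fixed points in it as elements, modulo `p`. -/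
theorem ncard_fixed_modEq {X : Type*} [MulAction G X] [Finite X] [Fact p.Prime] {Q : Subgroup G}
    (hQ : IsPGroup p ↥Q) {S : Set X} (hS : ∀ g ∈ Q, ∀ x ∈ S, g • x ∈ S) :
    S.ncard ≡ {x ∈ S | ∀ g ∈ Q, g • x = x}.ncard [MOD p] := by
  let Y : SubMulAction ↥Q X := ⟨S, fun g x hx => hS g g.2 x hx⟩
  have h1 := hQ.card_modEq_card_fixedPoints ↥Y
  have e1 : Nat.card ↥Y = S.ncard := Nat.card_coe_set_eq S
  have e2 : Nat.card ↥(fixedPoints ↥Q ↥Y) = {x ∈ S | ∀ g ∈ Q, g • x = x}.ncard := by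
    rw [← Nat.card_coe_set_eq]
    exact Nat.card_congr
      { toFun := fun x => ⟨x.1.1, x.1.2, fun g hg => congrArg Subtype.val (x.2 ⟨g, hg⟩)⟩
        invFun := fun x => ⟨⟨x.1, x.2.1⟩, fun g => Subtype.ext (x.2.2 g g.2)⟩
        left_inv := fun _ => rfl
        right_inv := fun _ => rfl }
  rwa [e1, e2] at h1

/-- An involution normalizing a group `D` of odd order normalizes a Sylow subgroup of `D` over any
`p`-subgroup of `D` that it normalizes. -/
theorem exists_invariant_isSyl [Fact p.Prime] {D P : Subgroup G} (hodd : Odd (Nat.card ↥D)) {u : G}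
    (hu : u * u = 1) (huD : cj u D = D) (hP : IsPGroup p ↥P) (hPD : P ≤ D) (huP : cj u P = P) :
    ∃ R, P ≤ R ∧ IsSyl p R D ∧ cj u R = R := by
  classical
  obtain ⟨Q, hPQ, hmax⟩ := exists_maximal_ge_of_wellFoundedGT
    (fun Q : Subgroup G => Q ≤ D ∧ IsPGroup p ↥Q ∧ cj u Q = Q) P ⟨hPD, hP, huP⟩
  obtain ⟨hQD, hQp, huQ⟩ := hmax.1
  set N := D ⊓ normalizer (Q : Set G) with hN
  have hQN : Q ≤ N := le_inf hQD le_normalizer
  have huN : cj u N = N := by
    have hle : cj u N ≤ N := by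
      rintro _ ⟨x, hx, rfl⟩
      refine mem_inf.2 ⟨huD ▸ conj_mem_cj (mem_inf.1 hx).1, ?_⟩
      have := cj_le_normalizer (g := u) Q (mem_inf.1 hx).2
      rwa [huQ] at this
    exact eq_of_le_of_card_ge hle (card_cj u N).ge
  -- `u` acts on the Sylow subgroups of `N`
  have huu : ∀ R : Subgroup G, cj u (cj u R) = R := fun R => by rw [cj_cj, hu, cj_one]
  have hmap : ∀ R, IsSyl p R N → IsSyl p (cj u R) N := fun R hR =>
    hR.of_card (isPGroup_cj hR.2.1 u) ((cj_mono hR.1).trans_eq huN) (card_cj u R).ge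
  let σ : Equiv.Perm {R : Subgroup G // IsSyl p R N} :=
    { toFun := fun R => ⟨cj u R, hmap R R.2⟩
      invFun := fun R => ⟨cj u R, hmap R R.2⟩
      left_inv := fun R => Subtype.ext (huu R)
      right_inv := fun R => Subtype.ext (huu R) }
  have hcard : Nat.card {R : Subgroup G // IsSyl p R N} = Nat.card (Sylow p ↥N) := by
    refine (Nat.card_eq_of_bijective (fun T : Sylow p ↥N => (⟨_, isSyl_map T⟩ : {R : Subgroup G // IsSyl p R N}))
      ⟨fun T T' e => Sylow.ext (map_injective N.subtype_injective (congrArg Subtype.val e)), ?_⟩).symm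
    rintro ⟨R, hR⟩
    obtain ⟨T, hT⟩ := hR.exists_sylow
    exact ⟨T, Subtype.ext hT⟩
  have hNodd : Odd (Nat.card ↥N) := hodd.of_dvd_nat (card_dvd_of_le inf_le_left)
  letI := Fintype.ofFinite {R : Subgroup G // IsSyl p R N}
  have h2 : ¬ 2 ∣ Fintype.card {R : Subgroup G // IsSyl p R N} := by
    rw [← Nat.card_eq_fintype_card, hcard]
    intro h2
    have h3 : Nat.card (Sylow p ↥N) ∣ Nat.card ↥N := by
      obtain ⟨T⟩ := (inferInstance : Nonempty (Sylow p ↥N))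
      rw [Sylow.card_eq_index_normalizer T]
      exact index_dvd_card _
    exact Nat.not_even_iff_odd.2 hNodd (even_iff_two_dvd.2 (h2.trans h3))
  haveI : Fact (Nat.Prime 2) := ⟨Nat.prime_two⟩
  obtain ⟨⟨R, hR⟩, hfix⟩ := Equiv.Perm.exists_fixed_point_of_prime h2 (σ := σ) (n := 1)
    (Equiv.ext fun R => by rw [pow_one, pow_two]; exact Subtype.ext (huu R))
  have hfix' : cj u R = R := congrArg Subtype.val hfix
  -- it contains the normal subgroup `Q`
  have hQR : Q ≤ R := by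
    have h1 : R ⊔ Q = R := hR.2.2 _ le_sup_left (sup_le hR.1 hQN)
      (hR.2.1.to_sup_of_normal_right' hQp (hR.1.trans inf_le_right))
    exact h1 ▸ le_sup_right
  have hRQ : R = Q := le_antisymm (hmax.2 ⟨hR.1.trans inf_le_left, hR.2.1, hfix'⟩ hQR) hQR
  refine ⟨Q, hPQ, ⟨hQD, hQp, fun T hle hTD hT => ?_⟩, huQ⟩
  by_contra hne
  obtain ⟨g, hgT, hgQ, hgn⟩ := exists_mem_normalizer hT (lt_of_le_of_ne hle (Ne.symm hne))
  have h1 : T ⊓ N = R := hR.2.2 _ (le_inf (hRQ.le.trans hle) hR.1) inf_le_right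
    (hT.to_le inf_le_left)
  exact hgQ (hRQ ▸ h1 ▸ mem_inf.2 ⟨hgT, mem_inf.2 ⟨hTD hgT, hgn⟩⟩)

end Cfsg.Agent.SETwoClosed
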