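import Mathlib
import Cfsg.Agent.Lib.SECore.NoBadBasic
import Cfsg.Agent.Lib.SETwoClosed.Image
import Cfsg.Agent.Lib.SETwoClosed.Ind
import Cfsg.Agent.Lib.SETwoClosed.Sylow

/-!
# Strongly embedded subgroups with a normal Sylow 2-subgroup: pairs with a largest Sylow subgroup

For a pair of points whose two-point stabilizer has a largest Sylow `p`-subgroup `R`, the subgroup `R` is
Sylow in the group, fixes just the two points, and meets their kernels on involutions equally.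
-/

set_option autoImplicit false
set_option linter.style.haveILetI false
set_option linter.unusedSectionVars false

namespace Cfsg.Agent.SETwoClosed

open Subgroup MulAction
open Cfsg.Agent.Involutions

universe u

variable {G : Type u} [Group G] {H : Subgroup G}

/-- The two-point stabilizer. -/
abbrev Dp (x y : G ⧸ H) : Subgroup G := stabilizer G x ⊓ stabilizer G y

theorem smul_fix_of_normalizer {R : Subgroup G} {g : G} (hg : g ∈ normalizer (R : Set G)) {z : G ⧸ H}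
    (hz : R ≤ stabilizer G z) : R ≤ stabilizer G (g • z) := fun r hr => by
  have h1 := (mem_normalizer_iff.1 (inv_mem hg) r).1 hr
  rw [inv_inv] at h1
  have h2 := stab_conj (g := g) (hz h1)
  rwa [show g * (g⁻¹ * r * g) * g⁻¹ = r by group] at h2

variable [Finite G]

theorem cj_Dp {u : G} {x y : G ⧸ H} (hu : orderOf u = 2) (hux : u • x = y) (huy : u • y = x) :
    cj u (Dp x y) = Dp x y := by
  have hui : u⁻¹ = u := Basic.inv_eq hu
  ext d
  rw [mem_cj, hui]
  refine ⟨fun hd => ?_, fun hd => swap_conj hu hux huy hd⟩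
  have := swap_conj hu hux huy hd
  rwa [show u * (u * d * u) * u = (u * u) * d * (u * u) by group, Basic.inv_sq_one hu, one_mul, mul_one] at this

theorem Hyp.exists_two_Wx (h : Hyp H) (x : G ⧸ H) : ∃ a ∈ Wx x, ∃ b ∈ Wx x, a ≠ 1 ∧ b ≠ 1 ∧ a ≠ b := by
  obtain ⟨g, rfl⟩ := exists_smul_base x
  obtain ⟨a, ha, b, hb, ha2, hb2, hab, -⟩ := h.four
  have key : ∀ e ∈ H, orderOf e = 2 → g * e * g⁻¹ ∈ Wx (g • base H) ∧ g * e * g⁻¹ ≠ 1 := fun e he he2 =>
    ⟨Wx_conj (h.mem_Wx.2 ⟨smul_base_iff.2 he, Basic.inv_sq_one he2⟩),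
      fun e1 => Basic.ne_one he2 (conj_eq_one_iff.1 e1)⟩
  exact ⟨_, (key a ha ha2).1, _, (key b hb hb2).1, (key a ha ha2).2, (key b hb hb2).2,
    fun e => hab (mul_left_cancel (mul_right_cancel e))⟩

/-- An involution normalizing a subgroup of odd order and fixing one of its fixed points centralizes it. -/
theorem Hyp.mem_cent_of_fix (h : Hyp H) {R : Subgroup G} (hR : Odd (Nat.card ↥R)) {t : G}
    (htn : t ∈ normalizer (R : Set G)) (ht : orderOf t = 2) {z : G ⧸ H} (htz : t • z = z)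
    (hRz : R ≤ stabilizer G z) : t ∈ centralizer (R : Set G) := by
  refine mem_centralizer_iff.2 fun r hr => ?_
  have htW : t ∈ Wx z := h.mem_Wx.2 ⟨htz, Basic.inv_sq_one ht⟩
  have h1 : r * t * r⁻¹ * t⁻¹ ∈ R := by
    rw [show r * t * r⁻¹ * t⁻¹ = r * (t * r⁻¹ * t⁻¹) by group]
    exact mul_mem hr ((mem_normalizer_iff.1 htn r⁻¹).1 (inv_mem hr))
  have h2 : r * t * r⁻¹ * t⁻¹ ∈ Wx z := mul_mem (Wx_normal (hRz hr) htW) (inv_mem htW)
  have h3 : r * t * r⁻¹ * t⁻¹ = 1 := (h.mem_Sx.1 (Wx_le_Sx z h2)).2.eq_one_of_odd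
    (SECore.odd_orderOf_of_mem hR h1)
  calc r * t = (r * t * r⁻¹ * t⁻¹) * (t * r) := by group
    _ = t * r := by rw [h3, one_mul]

/-- If the normalizer of a subgroup of odd order contains two commuting involutions, all its involutions
centralize the subgroup. -/
theorem Hyp.four_centralise (h : Hyp H) {R : Subgroup G} (hR : Odd (Nat.card ↥R)) {a b : G}
    (ha : a ∈ normalizer (R : Set G)) (hb : b ∈ normalizer (R : Set G)) (ha2 : orderOf a = 2)
    (hb2 : orderOf b = 2) (hab : Commute a b) (hne : a ≠ b) :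
    ∀ j ∈ normalizer (R : Set G), orderOf j = 2 → j ∈ centralizer (R : Set G) := by
  obtain ⟨x, hax⟩ := h.exists_fixed (H := H) ha2
  have haW : a ∈ Wx x := h.mem_Wx.2 ⟨hax, Basic.inv_sq_one ha2⟩
  have hbx : b • x = x := h.smul_of_commute haW (Basic.ne_one ha2) hab.symm
  have hbW : b ∈ Wx x := h.mem_Wx.2 ⟨hbx, Basic.inv_sq_one hb2⟩
  have hRx : R ≤ stabilizer G x := by
    refine SECore.le_of_four hR (Basic.inv_sq_one ha2) (Basic.inv_sq_one hb2) hab ha hb fun r _ hr => ?_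
    rcases hr with hr | hr | hr
    · exact h.smul_of_commute haW (Basic.ne_one ha2) hr
    · exact h.smul_of_commute hbW (Basic.ne_one hb2) hr
    · refine h.smul_of_commute (mul_mem haW hbW) (fun e => hne ?_) hr
      rw [← Basic.inv_eq hb2]
      exact eq_inv_of_mul_eq_one_left e
  intro j hj hj2
  obtain ⟨y, hjy⟩ := h.exists_fixed (H := H) hj2
  by_cases hyx : y = x
  · exact h.mem_cent_of_fix hR hj hj2 (hyx ▸ hjy) hRx
  have hodd : Odd (orderOf (a * j)) := by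
    by_contra hcon
    rw [Nat.not_odd_iff_even] at hcon
    obtain ⟨hm, hma, hmj⟩ := Basic.middle_involution ha2 hj2 hcon
    have hjW : j ∈ Wx y := h.mem_Wx.2 ⟨hjy, Basic.inv_sq_one hj2⟩
    exact hyx (h.eq_of_fixed hm (h.smul_of_commute hjW (Basic.ne_one hj2) hmj)
      (h.smul_of_commute haW (Basic.ne_one ha2) hma))
  obtain ⟨d, hd, hdj⟩ := Basic.exists_conj_of_odd ha2 hj2 hodd
  have hdn : d ∈ normalizer (R : Set G) := zpowers_le.2 (mul_mem ha hj) hd
  have hac := h.mem_cent_of_fix hR ha ha2 hax hRx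
  refine mem_centralizer_iff.2 fun r hr => ?_
  rw [← hdj]
  have h1 := mem_centralizer_iff.1 hac (d⁻¹ * r * d)
    (by simpa using (mem_normalizer_iff.1 (inv_mem hdn) r).1 hr)
  calc r * (d * a * d⁻¹) = d * ((d⁻¹ * r * d) * a) * d⁻¹ := by group
    _ = d * (a * (d⁻¹ * r * d)) * d⁻¹ := by rw [h1]
    _ = d * a * d⁻¹ * r := by group

variable {n p : ℕ} (hP : Par H n p)
include hP

theorem Par.fact : Fact p.Prime := ⟨hP.prime⟩

theorem Par.two_pow_sub_ne : 2 ^ n - 1 ≠ 0 := by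
  have := Nat.one_lt_two_pow (show n ≠ 0 by have := hP.two_le; omega)
  omega

theorem Par.p_ne_two : p ≠ 2 := by
  rintro rfl
  have h1 : 2 ∣ 2 ^ n := dvd_pow_self 2 (by have := hP.two_le; omega)
  have h2 := hP.dvd
  have := hP.two_pow_sub_ne
  omega

theorem Par.factorization_pos : 0 < (2 ^ n - 1).factorization p :=
  hP.prime.factorization_pos_of_dvd hP.two_pow_sub_ne hP.dvd

theorem Par.one_lt_pPart : 1 < pPart n p := Nat.one_lt_pow hP.factorization_pos.ne' hP.prime.one_lt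

theorem Par.odd_card {R : Subgroup G} (hR : IsPGroup p ↥R) : Odd (Nat.card ↥R) := by
  haveI := hP.fact
  obtain ⟨k, hk⟩ := IsPGroup.iff_card.1 hR
  rw [hk]
  exact (hP.prime.odd_of_ne_two hP.p_ne_two).pow

theorem Par.exists_pow {R : Subgroup G} (hR : IsPGroup p ↥R) {r : G} (hr : r ∈ R) (x : G ⧸ H) :
    ∃ k : ℕ, r ^ p ^ k ∈ Ux x := by
  obtain ⟨k, hk⟩ := hR ⟨r, hr⟩
  refine ⟨k, ?_⟩
  rw [show r ^ p ^ k = 1 from congrArg Subtype.val hk]
  exact one_mem _

theorem Par.mem_U_of_commute {x : G ⧸ H} {z w : G} (hz : z • x = x) (hzp : ∃ k : ℕ, z ^ p ^ k ∈ Ux x)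
    (hw : w ∈ Wx x) (hw1 : w ≠ 1) (hc : Commute z w) : z ∈ Ux x := by
  by_contra hU
  exact hw1 (hP.fpf x z hz hzp hU w hw hc)

/-- A Sylow subgroup of a two-point stabilizer induces the full `p`-part on the involutions. -/
theorem Par.card_syl {x y : G ⧸ H} (hxy : x ≠ y) {T : Subgroup G} (hT : IsSyl p T (Dp x y)) :
    Nat.card ↥T = pPart n p * Nat.card ↥(T ⊓ Ux x) := by
  obtain ⟨T0, rfl⟩ := hT.exists_sylow
  have e : Nat.card ↥(((T0 : Subgroup ↥(Dp x y)).map (Dp x y).subtype) ⊓ Ux x) =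
      Nat.card ↥((Ux x).subgroupOf ((T0 : Subgroup ↥(Dp x y)).map (Dp x y).subtype)) := by
    rw [inf_comm, ← subgroupOf_map_subtype (Ux x)]
    exact card_map_of_injective (subtype_injective _)
  rw [e, ← hP.index_sylow x y hxy T0, index_mul_card]

theorem Par.card_syl' {x y : G ⧸ H} (hxy : x ≠ y) {T : Subgroup G} (hT : IsSyl p T (Dp x y)) :
    Nat.card ↥T = pPart n p * Nat.card ↥(T ⊓ Ux y) :=
  hP.card_syl hxy.symm (by rwa [Dp, inf_comm])

theorem Par.exists_swap_syl {x y : G ⧸ H} (hxy : x ≠ y) {T : Subgroup G} (hT : IsSyl p T (Dp x y)) :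
    ∃ u : G, orderOf u = 2 ∧ u • x = y ∧ u • y = x ∧ cj u T = T := by
  haveI := hP.fact
  obtain ⟨u, hu, hux, huy⟩ := hP.hyp.exists_swap hxy
  obtain ⟨R, -, hR, huR⟩ := exists_invariant_isSyl (p := p) (hP.hyp.odd_D hxy) (Basic.inv_sq_one hu)
    (cj_Dp hu hux huy) IsPGroup.of_bot bot_le (map_bot _)
  obtain ⟨d, hd, hdT⟩ := hR.conj hT
  have hdx : d⁻¹ • x = x := mem_stabilizer_iff.1 (inv_mem (mem_inf.1 hd).1)
  have hdy : d⁻¹ • y = y := mem_stabilizer_iff.1 (inv_mem (mem_inf.1 hd).2)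
  refine ⟨d * u * d⁻¹, by rw [Basic.orderOf_conj, hu], ?_, ?_, ?_⟩
  · rw [mul_smul, mul_smul, hdx, hux]; exact (mem_inf.1 hd).2
  · rw [mul_smul, mul_smul, hdy, huy]; exact (mem_inf.1 hd).1
  · rw [← hdT, cj_cj, show d * u * d⁻¹ * d = d * u by group, ← cj_cj, huR]

/-- A `p`-subgroup centralized by a swapper lies in an invariant Sylow subgroup whose centralized part has
index the `p`-part of `2 ^ n - 1`. -/
theorem Par.exists_invariant_syl {x y : G ⧸ H} (hxy : x ≠ y) {u : G} (hu : orderOf u = 2)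
    (hux : u • x = y) {P : Subgroup G} (hPp : IsPGroup p ↥P)
    (hPle : P ≤ centralizer ({u} : Set G) ⊓ Dp x y) :
    ∃ T : Subgroup G, IsSyl p T (Dp x y) ∧ cj u T = T ∧ P ≤ centralizer ({u} : Set G) ⊓ T ∧
      Nat.card ↥T = pPart n p * Nat.card ↥(centralizer ({u} : Set G) ⊓ T : Subgroup G) := by
  haveI := hP.fact
  have huy : u • y = x := by rw [← hux, smul_smul, Basic.inv_sq_one hu, one_smul]
  obtain ⟨P0, hPP0, hP0⟩ := exists_isSyl_ge hPp hPle
  have huP0 : cj u P0 = P0 := cj_eq_self (centralizer_le_normalizer P0 (mem_centralizer_iff.2 fun r hr =>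
    mem_centralizer_singleton_iff.1 (mem_inf.1 (hP0.1 hr)).1))
  obtain ⟨T, hP0T, hT, huT⟩ := exists_invariant_isSyl (p := p) (hP.hyp.odd_D hxy) (Basic.inv_sq_one hu)
    (cj_Dp hu hux huy) hP0.2.1 (hP0.1.trans inf_le_right) huP0
  have hC : centralizer ({u} : Set G) ⊓ T = P0 := hP0.2.2 _ (le_inf (hP0.1.trans inf_le_left) hP0T)
    (inf_le_inf_left _ hT.1) (hT.2.1.to_le inf_le_right)
  refine ⟨T, hT, huT, hC.symm ▸ hPP0, ?_⟩
  rw [hC, hT.card_eq, hP0.card_eq, pPart, ← pow_add]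
  congr 1
  have hD := hP.hyp.card_D hxy hu hux
  rw [hP.card_W] at hD
  rw [hD, Nat.factorization_mul hP.two_pow_sub_ne Nat.card_pos.ne']
  rfl

theorem Par.swap_not_cent {x y : G ⧸ H} (hxy : x ≠ y) {T : Subgroup G} (hT : IsSyl p T (Dp x y)) {u : G}
    (hu : orderOf u = 2) (hux : u • x = y) : ¬ T ≤ centralizer ({u} : Set G) := by
  haveI := hP.fact
  intro hle
  obtain ⟨T', hT', -, hTle, hcard⟩ := hP.exists_invariant_syl hxy hu hux hT.2.1 (le_inf hle hT.1)
  have h1 := card_le_of_le hTle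
  have h2 := hT.card_le hT'.2.1 hT'.1
  have h3 := hP.one_lt_pPart
  have h4 := Nat.card_pos (α := ↥(centralizer ({u} : Set G) ⊓ T' : Subgroup G))
  nlinarith

/-- If `R` is Sylow in a two-point stabilizer then its normalizer has rank one. -/
theorem Par.rankOne {x y : G ⧸ H} (hxy : x ≠ y) {R : Subgroup G} (hR : IsSyl p R (Dp x y)) :
    SECore.RankOne (normalizer (R : Set G)) := by
  intro a ha b hb ha2 hb2 hab
  by_contra hne
  obtain ⟨u, hu, hux, -, huR⟩ := hP.exists_swap_syl hxy hR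
  exact hP.swap_not_cent hxy hR hu hux fun r hr => mem_centralizer_singleton_iff.2 (mem_centralizer_iff.1
    (hP.hyp.four_centralise (hP.odd_card hR.2.1) ha hb ha2 hb2 hab hne u (mem_normalizer_of_cj huR) hu)
    r hr)

/-- If `R` is Sylow in a two-point stabilizer then no involution normalizing it fixes a fixed point. -/
theorem Par.no_fix {x y : G ⧸ H} (hxy : x ≠ y) {R : Subgroup G} (hR : IsSyl p R (Dp x y)) {t : G}
    (htn : t ∈ normalizer (R : Set G)) (ht : orderOf t = 2) {z : G ⧸ H} (hRz : R ≤ stabilizer G z) :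
    t • z ≠ z := by
  intro htz
  have htc := hP.hyp.mem_cent_of_fix (hP.odd_card hR.2.1) htn ht htz hRz
  obtain ⟨u, hu, hux, -, huR⟩ := hP.exists_swap_syl hxy hR
  have hun := mem_normalizer_of_cj huR
  refine hP.swap_not_cent hxy hR hu hux fun r hr => mem_centralizer_singleton_iff.2 ?_
  by_cases hodd : Odd (orderOf (t * u))
  · obtain ⟨d, hd, hdu⟩ := Basic.exists_conj_of_odd ht hu hodd
    have hdn : d ∈ normalizer (R : Set G) := zpowers_le.2 (mul_mem htn hun) hd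
    have h1 := mem_centralizer_iff.1 htc (d⁻¹ * r * d)
      (by simpa using (mem_normalizer_iff.1 (inv_mem hdn) r).1 hr)
    rw [← hdu]
    calc r * (d * t * d⁻¹) = d * ((d⁻¹ * r * d) * t) * d⁻¹ := by group
      _ = d * (t * (d⁻¹ * r * d)) * d⁻¹ := by rw [h1]
      _ = d * t * d⁻¹ * r := by group
  · rw [Nat.not_odd_iff_even] at hodd
    obtain ⟨hm, hmt, hmu⟩ := Basic.middle_involution ht hu hodd
    have hmn := pow_mem (mul_mem htn hun) (orderOf (t * u) / 2)
    rw [show u = t from (hP.rankOne hxy hR _ hmn _ hun hm hu hmu).symm.trans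
      (hP.rankOne hxy hR _ hmn _ htn hm ht hmt)]
    exact mem_centralizer_iff.1 htc r hr

theorem Par.normalizer_ne_top [FaithfulSMul G (G ⧸ H)] {K : Subgroup G} {x : G ⧸ H}
    (hK : K ≤ stabilizer G x) (hK1 : K ≠ ⊥) : normalizer (K : Set G) ≠ ⊤ := by
  intro e
  refine hK1 (eq_bot_iff.2 fun k hk => mem_bot.2 (FaithfulSMul.eq_of_smul_eq_smul (α := G ⧸ H) fun z => ?_))
  obtain ⟨g, rfl⟩ := MulAction.exists_smul_eq G x z
  rw [one_smul]
  exact smul_fix_of_normalizer (g := g) (e ▸ mem_top g) hK hk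

theorem Par.orbit_modEq {X : Subgroup G} {d : G ⧸ H} (hS : Slice X d) (hW : Wx d ≤ X) :
    (orbit ↥X d).ncard ≡ 2 [MOD p] := by
  obtain ⟨i, -, -, hi⟩ := hS.card
  rw [hS.orbit_card, hi, inf_eq_left.2 hW, hP.card_W]
  have h1 : 2 ^ n ≡ 1 [MOD p] :=
    ((Nat.modEq_iff_dvd' Nat.one_le_two_pow).2 hP.dvd).symm
  simpa using (h1.pow i).add_right 1

/-- The centralizer of the kernel on involutions contains the involutions. -/
theorem Par.Wx_le_normalizer {x : G ⧸ H} {K : Subgroup G} (hK : K ≤ Ux x) :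
    Wx x ≤ normalizer (K : Set G) := fun w hw =>
  centralizer_le_normalizer K (mem_centralizer_iff.2 fun k hk => ((mem_Ux.1 (hK hk)).2 w hw).symm)

variable {x y : G ⧸ H} (hxy : x ≠ y) {T : Subgroup G} (hT : IsSyl p T (Dp x y))
  (hmax : ∀ x' y' : G ⧸ H, x' ≠ y' → ∀ T' : Subgroup G, IsSyl p T' (Dp x' y') → Nat.card ↥T' ≤ Nat.card ↥T)
include hxy hT hmax

theorem Par.max_isSyl {a b : G ⧸ H} (hab : a ≠ b) (ha : T ≤ stabilizer G a) (hb : T ≤ stabilizer G b) :
    IsSyl p T (Dp a b) := by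
  haveI := hP.fact
  obtain ⟨R, hTR, hR⟩ := exists_isSyl_ge hT.2.1 (le_inf ha hb)
  rwa [eq_of_le_of_card_ge hTR (hmax a b hab R hR)]

theorem Par.max_fix {z : G ⧸ H} (hz : T ≤ stabilizer G z) : z = x ∨ z = y := by
  by_contra hcon
  push Not at hcon
  have hTx : T ≤ stabilizer G x := hT.1.trans inf_le_left
  have hTy : T ≤ stabilizer G y := hT.1.trans inf_le_right
  refine hcon.1 ((hP.rankOne hxy hT).no_triangle {a : G ⧸ H | T ≤ stabilizer G a}
    (fun a ha t htn ht => hP.no_fix hxy hT htn ht ha)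
    (fun a ha b hb hab => ?_) hz hTy hTx hcon.2 hxy.symm)
  obtain ⟨u, hu, hua, -, huT⟩ := hP.exists_swap_syl hab (hP.max_isSyl hxy hT hmax hab ha hb)
  exact ⟨u, mem_normalizer_of_cj huT, hu, hua⟩

theorem Par.max_sylow {Q : Subgroup G} (hQ : IsPGroup p ↥Q) : Nat.card ↥Q ≤ Nat.card ↥T := by
  haveI := hP.fact
  refine IsSyl.card_le (D := ⊤) ⟨le_top, hT.2.1, fun P hle _ hPp => ?_⟩ hQ le_top
  by_contra hne
  obtain ⟨g, hg, hgT, hgn⟩ := exists_mem_normalizer hPp (lt_of_le_of_ne hle (Ne.symm hne))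
  have hfix : g • x = x ∧ g • y = y := by
    have h1 := hP.max_fix hxy hT hmax (smul_fix_of_normalizer hgn (hT.1.trans inf_le_left))
    have h2 := hP.max_fix hxy hT hmax (smul_fix_of_normalizer hgn (hT.1.trans inf_le_right))
    rcases h1 with h1 | h1
    · refine ⟨h1, h2.resolve_left fun h2 => hxy ?_⟩
      exact (MulAction.injective g) (h1.trans h2.symm)
    · exfalso
      have h2' : g • y = x := h2.resolve_right fun h2 => hxy (MulAction.injective g (h1.trans h2.symm))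
      obtain ⟨k, hk⟩ := hP.odd_card (hPp.to_le (zpowers_le.2 hg))
      rw [Nat.card_zpowers] at hk
      have h3 : g ^ 2 ∈ stabilizer G x := by rw [mem_stabilizer_iff, pow_two, mul_smul, h1, h2']
      have h4 : g ^ (2 * (k + 1)) = g := by
        rw [show 2 * (k + 1) = orderOf g + 1 by omega, pow_succ, pow_orderOf_eq_one, one_mul]
      have h5 : g • x = x := by
        rw [← h4, pow_mul]
        exact mem_stabilizer_iff.1 (pow_mem h3 _)
      exact hxy (h5.symm.trans h1)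
  exact hgT (hT.2.2 (T ⊔ zpowers g) le_sup_left
    (sup_le hT.1 (zpowers_le.2 (mem_inf.2 hfix))) (hPp.to_le (sup_le hle (zpowers_le.2 hg))) ▸
      mem_sup_right (mem_zpowers g))

theorem Par.max_conj {a b : G ⧸ H} (hab : a ≠ b) {S : Subgroup G} (hS : IsSyl p S (Dp a b))
    (hcard : Nat.card ↥T ≤ Nat.card ↥S) :
    ∃ g : G, cj g T = S ∧ g • x = a ∧ g • y = b := by
  haveI := hP.fact
  have hTG : IsSyl p T ⊤ := ⟨le_top, hT.2.1, fun P hle _ hPp =>
    (eq_of_le_of_card_ge hle (hP.max_sylow hxy hT hmax hPp)).symm⟩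
  obtain ⟨g, -, hg⟩ := hTG.conj (hTG.of_card hS.2.1 le_top hcard)
  have hS' : ∀ c : G ⧸ H, S ≤ stabilizer G c → g⁻¹ • c = x ∨ g⁻¹ • c = y := fun c hc => by
    refine hP.max_fix hxy hT hmax fun t ht => ?_
    have := stab_conj (g := g⁻¹) (hc (hg ▸ conj_mem_cj ht))
    rwa [show g⁻¹ * (g * t * g⁻¹) * g⁻¹⁻¹ = t by group] at this
  obtain ⟨u, hu, hux, huy, huT⟩ := hP.exists_swap_syl hxy hT
  rcases hS' a (hS.1.trans inf_le_left) with h1 | h1 <;> rcases hS' b (hS.1.trans inf_le_right) with h2 | h2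
  · exact absurd (MulAction.injective g⁻¹ (h1.trans h2.symm)) hab
  · exact ⟨g, hg, by rw [← h1, smul_inv_smul], by rw [← h2, smul_inv_smul]⟩
  · refine ⟨g * u, by rw [← cj_cj, huT, hg], ?_, ?_⟩
    · rw [mul_smul, hux, ← h1, smul_inv_smul]
    · rw [mul_smul, huy, ← h2, smul_inv_smul]
  · exact absurd (MulAction.injective g⁻¹ (h1.trans h2.symm)) hab

/-- The two kernels on involutions meet `T` in the same subgroup. -/
theorem Par.max_U [FaithfulSMul G (G ⧸ H)] (IH : IndHyp G) : T ⊓ Ux x = T ⊓ Ux y := by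
  classical
  haveI := hP.fact
  have h := hP.hyp
  obtain ⟨u, hu, hux, huy⟩ := h.exists_swap hxy
  obtain ⟨R, hR, huR, -, hRcard⟩ := hP.exists_invariant_syl hxy hu hux IsPGroup.of_bot bot_le
  obtain ⟨e, he, heT⟩ := hR.conj hT
  suffices hmain : R ⊓ Ux x = R ⊓ Ux y by
    have key : ∀ z : G ⧸ H, e • z = z → T ⊓ Ux z = cj e (R ⊓ Ux z) := by
      intro z hz
      ext g
      rw [mem_cj, mem_inf, mem_inf, ← mem_cj (R := R), heT]
      refine and_congr_right fun _ => ⟨fun hg => ?_, fun hg => ?_⟩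
      · simpa using Ux_normal (g := e⁻¹) (inv_smul_eq_iff.2 hz.symm) hg
      · simpa [mul_assoc] using Ux_normal hz hg
    rw [key x (mem_inf.1 he).1, key y (mem_inf.1 he).2, hmain]
  have hRT : Nat.card ↥R = Nat.card ↥T := by rw [← heT, card_cj]
  set Z := centralizer ({u} : Set G) ⊓ R with hZdef
  have hZu : ∀ z ∈ Z, Commute z u := fun z hz => mem_centralizer_singleton_iff.1 (mem_inf.1 hz).1
  have hpos := hP.one_lt_pPart
  by_cases hZ : Z = ⊥
  · rw [hZ, card_bot, mul_one] at hRcard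
    have key : ∀ z : G ⧸ H, Nat.card ↥R = pPart n p * Nat.card ↥(R ⊓ Ux z) → R ⊓ Ux z = ⊥ := fun z hz => by
      rw [← card_eq_one]
      rw [hRcard] at hz
      exact Nat.eq_of_mul_eq_mul_left (by omega : 0 < pPart n p) (by omega)
    rw [key x (hP.card_syl hxy hR), key y (hP.card_syl' hxy hR)]
  obtain ⟨f, huf⟩ := h.exists_fixed (H := H) hu
  have huW : u ∈ Wx f := h.mem_Wx.2 ⟨huf, Basic.inv_sq_one hu⟩
  have hZf : ∀ z ∈ Z, z • f = f := fun z hz => h.smul_of_commute huW (Basic.ne_one hu) (hZu z hz)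
  have hZU : Z ≤ Ux f := fun z hz =>
    hP.mem_U_of_commute (hZf z hz) (hP.exists_pow hR.2.1 (mem_inf.1 hz).2 f) huW (Basic.ne_one hu) (hZu z hz)
  have hRf : ∀ r ∈ R, r • f = f → r ∈ Z := fun r hr hrf => by
    refine mem_inf.2 ⟨mem_centralizer_singleton_iff.2 ?_, hr⟩
    have hun := mem_normalizer_of_cj huR
    have h1 : r * u * r⁻¹ * u⁻¹ ∈ R := by
      rw [show r * u * r⁻¹ * u⁻¹ = r * (u * r⁻¹ * u⁻¹) by group]
      exact mul_mem hr ((mem_normalizer_iff.1 hun r⁻¹).1 (inv_mem hr))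
    have h2 : r * u * r⁻¹ * u⁻¹ ∈ Wx f := mul_mem (Wx_normal hrf huW) (inv_mem huW)
    have h3 : r * u * r⁻¹ * u⁻¹ = 1 := (h.mem_Sx.1 (Wx_le_Sx f h2)).2.eq_one_of_odd
      (SECore.odd_orderOf_of_mem (hP.odd_card hR.2.1) h1)
    calc r * u = (r * u * r⁻¹ * u⁻¹) * (u * r) := by group
      _ = u * r := by rw [h3, one_mul]
  obtain ⟨g0, hg0R, hg0Z, hg0n⟩ := exists_mem_normalizer hR.2.1 (lt_of_le_of_ne inf_le_right
    fun e' => hP.swap_not_cent hxy hR hu hux (e' ▸ (inf_le_left : Z ≤ _)))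
  set X := normalizer (Z : Set G)
  have hXne : X ≠ ⊤ := hP.normalizer_ne_top (fun z hz => hZf z hz) hZ
  have hWX : Wx f ≤ X := hP.Wx_le_normalizer hZU
  obtain ⟨a1, ha1, b1, hb1, ha11, hb11, hab1⟩ := h.exists_two_Wx f
  have hS := h.slice IH hXne ⟨g0, hg0n, fun e' => hg0Z (hRf g0 hg0R e')⟩ (hWX ha1) (hWX hb1) ha1 hb1 ha11
    hb11 hab1
  set Q := R ⊓ X
  obtain ⟨d, hd, hdQ⟩ : ∃ d ∈ orbit ↥X f, ∀ q ∈ Q, q • d = d := by
    have h1 := ncard_fixed_modEq (S := orbit ↥X f) (hR.2.1.to_le (inf_le_left : Q ≤ R))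
      fun q hq z hz => smul_mem_orbit (mem_inf.1 hq).2 hz
    have h2 := h1.symm.trans (hP.orbit_modEq hS hWX)
    by_contra hcon
    have he : {z ∈ orbit ↥X f | ∀ q ∈ Q, q • z = z} = ∅ :=
      Set.eq_empty_of_forall_notMem fun z hz => hcon ⟨z, hz.1, hz.2⟩
    rw [he, Set.ncard_empty] at h2
    have h3 : p ∣ 2 := Nat.modEq_zero_iff_dvd.1 h2.symm
    exact hP.p_ne_two ((Nat.prime_dvd_prime_iff_eq hP.prime Nat.prime_two).1 h3)
  have hdf : d ≠ f := fun e' => hg0Z (hRf g0 hg0R (e' ▸ hdQ g0 (mem_inf.2 ⟨hg0R, hg0n⟩)))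
  have huX : u ∈ X := centralizer_le_normalizer Z (mem_centralizer_iff.2 fun z hz => (hZu z hz).eq)
  have hd' : u • d ∈ orbit ↥X f := smul_mem_orbit huX hd
  have hdd' : d ≠ u • d := fun e' => hdf (h.eq_of_fixed hu e'.symm huf)
  have hdQ' : ∀ q ∈ Q, q • (u • d) = u • d := by
    intro q hq
    have h1 : u * q * u⁻¹ ∈ Q := mem_inf.2 ⟨huR ▸ conj_mem_cj (mem_inf.1 hq).1,
      mul_mem (mul_mem huX (mem_inf.1 hq).2) (inv_mem huX)⟩
    have h2 := hdQ _ h1
    rw [mul_smul, mul_smul, Basic.inv_eq hu] at h2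
    refine MulAction.injective u ?_
    show u • q • u • d = u • u • d
    rw [h2, smul_smul, Basic.inv_sq_one hu, one_smul]
  have hZd : ∀ c ∈ orbit ↥X f, Z ≤ Ux c := by
    rintro _ ⟨g, rfl⟩ z hz
    have h1 : (g : G)⁻¹ * z * g ∈ Z := by
      simpa using (mem_normalizer_iff.1 (inv_mem g.2) z).1 hz
    have h2 := Ux_conj (g := (g : G)) (hZU h1)
    rwa [show (g : G) * ((g : G)⁻¹ * z * g) * (g : G)⁻¹ = z by group] at h2
  obtain ⟨S, hQS, hS'⟩ := exists_isSyl_ge (p := p) (hR.2.1.to_le (inf_le_left : Q ≤ R))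
    (show Q ≤ Dp d (u • d) from fun q hq => mem_inf.2 ⟨hdQ q hq, hdQ' q hq⟩)
  have hZS : Z ≤ S := (le_inf inf_le_right le_normalizer).trans hQS
  have hle1 : Z ≤ S ⊓ Ux d := le_inf hZS (hZd d hd)
  have hle2 : Z ≤ S ⊓ Ux (u • d) := le_inf hZS (hZd _ hd')
  have hc1 := hP.card_syl hdd' hS'
  have hc2 := hP.card_syl' hdd' hS'
  have hmx := hmax _ _ hdd' S hS'
  rw [← hRT, hRcard] at hmx
  have e1 : S ⊓ Ux d = Z := (eq_of_le_of_card_ge hle1 (by
    rw [hc1] at hmx; exact Nat.le_of_mul_le_mul_left hmx (by omega))).symm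
  have e2 : S ⊓ Ux (u • d) = Z := (eq_of_le_of_card_ge hle2 (by
    rw [hc2] at hmx; exact Nat.le_of_mul_le_mul_left hmx (by omega))).symm
  have hcardS : Nat.card ↥T ≤ Nat.card ↥S := by rw [← hRT, hRcard, hc1, e1]
  obtain ⟨g, hg, hgx, hgy⟩ := hP.max_conj hxy hR (fun a b hab S0 hS0 => hRT ▸ hmax a b hab S0 hS0)
    hdd' hS' (hRT ▸ hcardS)
  have key : ∀ z : G ⧸ H, R ⊓ Ux z = cj g⁻¹ (S ⊓ Ux (g • z)) := by
    intro z
    ext r
    rw [mem_cj, inv_inv, mem_inf, mem_inf, ← hg, mem_cj,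
      show g⁻¹ * (g * r * g⁻¹) * g = r by group]
    refine and_congr_right fun _ => ⟨fun hr => Ux_conj hr, fun hr => ?_⟩
    have := Ux_conj (g := g⁻¹) hr
    rwa [inv_smul_smul, show g⁻¹ * (g * r * g⁻¹) * g⁻¹⁻¹ = r by group] at this
  rw [key x, key y, hgx, hgy, e1, e2]

end Cfsg.Agent.SETwoClosed
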