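import Mathlib
import Cfsg.Agent.Lib.SETwoClosed.Pairs

/-!
# Strongly embedded subgroups with a normal Sylow 2-subgroup: the facts about pairs of points

What the study of the Sylow `p`-subgroups of the two-point stabilizers gives.
-/

set_option autoImplicit false
set_option linter.style.haveILetI false
set_option linter.unusedSectionVars false

namespace Cfsg.Agent.SETwoClosed

open Subgroup MulAction
open Cfsg.Agent.Involutions

universe u

variable {G : Type u} [Group G] {H : Subgroup G}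

/-- The facts about pairs of points. -/
structure Facts (H : Subgroup G) (n p : ℕ) : Prop where
  par : Par H n p
  trans2 : ∀ x y x' y' : G ⧸ H, x ≠ y → x' ≠ y' → ∃ g : G, g • x = x' ∧ g • y = y'
  sylow : ∀ (x y : G ⧸ H) (T Q : Subgroup G), x ≠ y → IsSyl p T (Dp x y) → IsPGroup p ↥Q →
    Nat.card ↥Q ≤ Nat.card ↥T
  fix_syl : ∀ (x y z : G ⧸ H) (T : Subgroup G), x ≠ y → IsSyl p T (Dp x y) → T ≤ stabilizer G z →
    z = x ∨ z = y
  fix_two : ∀ (x y z : G ⧸ H) (R : Subgroup G), x ≠ y → IsPGroup p ↥R → R ≤ stabilizer G x →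
    R ≤ stabilizer G y → R ≤ stabilizer G z → ¬ R ≤ Ux x → z = x ∨ z = y
  U_eq : ∀ x y : G ⧸ H, x ≠ y → Ux x ⊓ stabilizer G y = Ux y ⊓ stabilizer G x
  U_cent : ∀ (x y : G ⧸ H) (u e : G), x ≠ y → orderOf u = 2 → u • x = y → e ∈ Ux x → e • y = y →
    Commute e u
  exists_c : ∀ (x y : G ⧸ H) (u : G), x ≠ y → orderOf u = 2 → u • x = y →
    ∃ c ∈ Dp x y, u * c * u = c⁻¹ ∧ orderOf c = pPart n p ∧
      ∀ j : ℕ, c ^ j ∈ Ux x ↔ pPart n p ∣ j

variable {n p : ℕ}

/-- An element of `D` inverted by a swapper centralizes the common kernel. -/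
theorem Facts.commute_inverted (hF : Facts H n p) {x y : G ⧸ H} {u c e : G} (hxy : x ≠ y)
    (hu : orderOf u = 2) (hux : u • x = y) (hcy : c • y = y) (hc : u * c * u = c⁻¹)
    (he : e ∈ Ux x) (hey : e • y = y) : Commute e c := by
  have hv : orderOf (c * u) = 2 := by
    rw [Basic.orderOf_two_iff]
    refine ⟨by rw [show c * u * (c * u) = c * (u * c * u) by group, hc, mul_inv_cancel], fun e1 => ?_⟩
    have h1 : (c * u) • x = y := by rw [mul_smul, hux, hcy]
    rw [e1, one_smul] at h1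
    exact hxy h1
  have h1 := hF.U_cent x y (c * u) e hxy hv (by rw [mul_smul, hux, hcy]) he hey
  have h2 := hF.U_cent x y u e hxy hu hux he hey
  have h3 := h1.mul_right h2
  rwa [show c * u * u = c * (u * u) by group, Basic.inv_sq_one hu, mul_one] at h3

/-- An element of odd order of `X` centralizing `Sx d ⊓ X` fixes the orbit pointwise. -/
theorem Slice.fix_all_odd [Finite G] (h : Hyp H) {X : Subgroup G} {d : G ⧸ H} (hS : Slice X d) {g : G}
    (hgX : g ∈ X) (hodd : Odd (orderOf g)) (hgd : g • d = d) (hcent : ∀ s ∈ Sx d ⊓ X, Commute g s) :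
    ∀ z ∈ orbit ↥X d, g • z = z := by
  intro z hz
  by_cases hzd : z = d
  · rw [hzd, hgd]
  have hgz : g • z ∈ orbit ↥X d := smul_mem_orbit hgX hz
  have hgzd : g • z ≠ d := fun e => hzd (MulAction.injective g (e.trans hgd.symm))
  obtain ⟨s, hs, hsz⟩ := hS.trans z hz (g • z) hgz hzd hgzd
  have hpow : ∀ j : ℕ, g ^ j • z = s ^ j • z := fun j => by
    induction j with
    | zero => rw [pow_zero, pow_zero]
    | succ j ih =>
      rw [pow_succ, mul_smul, ← hsz, ← mul_smul, ((hcent s hs).pow_left j).eq, mul_smul, ih, ← mul_smul,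
        ← pow_succ']
  have h1 := hpow (orderOf g)
  rw [pow_orderOf_eq_one, one_smul] at h1
  have h2 : s ^ orderOf g = 1 :=
    h.eq_one_of_fix_two (Ne.symm hzd) (pow_mem (mem_inf.1 hs).1 _) h1.symm
  have h3 : s = 1 := (h.mem_Sx.1 (mem_inf.1 hs).1).2.eq_one_of_odd
    (hodd.of_dvd_nat (orderOf_dvd_of_pow_eq_one h2))
  rw [← hsz, h3, one_smul]

end Cfsg.Agent.SETwoClosed
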