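import Mathlib
import Cfsg.Agent.Lib.SETwoClosed.Pairs

/-!
# Strongly embedded subgroups with a normal Sylow 2-subgroup: double transitivity

All two-point stabilizers have Sylow `p`-subgroups of the same order, so the group is transitive on the
ordered pairs of distinct points.
-/

set_option autoImplicit false
set_option linter.style.haveILetI false
set_option linter.unusedSectionVars false

namespace Cfsg.Agent.SETwoClosed

open Subgroup MulAction
open Cfsg.Agent.Involutions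

universe u

variable {G : Type u} [Group G] [Finite G] {H : Subgroup G} {n p : ℕ} (hP : Par H n p)
include hP

theorem Par.pPart_le {x y : G ⧸ H} (hxy : x ≠ y) {T : Subgroup G} (hT : IsSyl p T (Dp x y)) :
    pPart n p ≤ Nat.card ↥T := by
  rw [hP.card_syl hxy hT]
  exact Nat.le_mul_of_pos_right _ Nat.card_pos

theorem Par.exists_max : ∃ (x y : G ⧸ H) (R : Subgroup G), x ≠ y ∧ IsSyl p R (Dp x y) ∧
    ∀ x' y' : G ⧸ H, x' ≠ y' → ∀ T' : Subgroup G, IsSyl p T' (Dp x' y') →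
      Nat.card ↥T' ≤ Nat.card ↥R := by
  haveI := hP.fact
  obtain ⟨u, hu, hu2⟩ := StronglyEmbedded.exists_involution_notMem hP.hyp.se
  obtain ⟨R0, hR0⟩ := exists_isSyl (p := p) (Dp (base H) (u • base H))
  obtain ⟨R, ⟨x, y, hxy, hR⟩, hmax⟩ := Set.exists_max_image
    {R : Subgroup G | ∃ x y : G ⧸ H, x ≠ y ∧ IsSyl p R (Dp x y)} (fun R => Nat.card ↥R) (Set.toFinite _)
    ⟨R0, base H, u • base H, fun e => hu (smul_base_iff.1 e.symm), hR0⟩
  exact ⟨x, y, R, hxy, hR, fun x' y' hne T' hT' => hmax T' ⟨x', y', hne, hT'⟩⟩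

/-- All Sylow subgroups of two-point stabilizers have the largest order. -/
theorem Par.card_syl_eq [FaithfulSMul G (G ⧸ H)] (IH : IndHyp G) {x0 y0 : G ⧸ H} {R : Subgroup G}
    (hxy0 : x0 ≠ y0) (hR : IsSyl p R (Dp x0 y0))
    (hmax : ∀ x' y' : G ⧸ H, x' ≠ y' → ∀ T' : Subgroup G, IsSyl p T' (Dp x' y') →
      Nat.card ↥T' ≤ Nat.card ↥R) :
    ∀ x y : G ⧸ H, x ≠ y → ∀ T : Subgroup G, IsSyl p T (Dp x y) → Nat.card ↥T = Nat.card ↥R := by
  haveI := hP.fact
  have h := hP.hyp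
  by_contra hcon
  push Not at hcon
  obtain ⟨x1, y1, hxy1, T1, hT1, hne1⟩ := hcon
  obtain ⟨R', ⟨⟨a, c, hac, hR'⟩, hlt⟩, hbest⟩ := Set.exists_max_image
    {T : Subgroup G | (∃ x y : G ⧸ H, x ≠ y ∧ IsSyl p T (Dp x y)) ∧ Nat.card ↥T < Nat.card ↥R}
    (fun T => Nat.card ↥T) (Set.toFinite _)
    ⟨T1, ⟨x1, y1, hxy1, hT1⟩, lt_of_le_of_ne (hmax x1 y1 hxy1 T1 hT1) hne1⟩
  have hbig : ∀ x y : G ⧸ H, x ≠ y → ∀ T : Subgroup G, IsSyl p T (Dp x y) →
      Nat.card ↥R' < Nat.card ↥T → Nat.card ↥R ≤ Nat.card ↥T := fun x y hxy T hT hlt' => by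
    by_contra hsmall
    exact (hbest T ⟨⟨x, y, hxy, hT⟩, not_le.1 hsmall⟩).not_gt hlt'
  -- move `c` by an element normalizing `R'`
  obtain ⟨k, rfl⟩ := MulAction.exists_smul_eq G x0 a
  obtain ⟨P, hR'P, hP0⟩ := exists_isSyl_ge hR'.2.1 (hR'.1.trans inf_le_left)
  have hkR : cj k R ≤ stabilizer G (k • x0) := by
    rintro _ ⟨r, hr, rfl⟩
    exact stab_conj ((hR.1.trans inf_le_left) hr)
  have hPR : Nat.card ↥R ≤ Nat.card ↥P := by
    have := hP0.card_le (isPGroup_cj hR.2.1 k) hkR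
    rwa [card_cj] at this
  obtain ⟨g, hgP, hgR, hgn⟩ := exists_mem_normalizer hP0.2.1 (lt_of_le_of_ne hR'P fun e => by
    rw [e] at hlt; omega)
  set a := k • x0
  have hga : g • a = a := hP0.1 hgP
  have hgc : g • c ≠ c := fun e => hgR (hR'.2.2 (R' ⊔ zpowers g) le_sup_left
    (sup_le hR'.1 (zpowers_le.2 (mem_inf.2 ⟨hga, e⟩)))
    (hP0.2.1.to_le (sup_le hR'P (zpowers_le.2 hgP))) ▸ mem_sup_right (mem_zpowers g))
  have hR'a : R' ≤ stabilizer G a := hR'.1.trans inf_le_left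
  have hR'c : R' ≤ stabilizer G c := hR'.1.trans inf_le_right
  obtain ⟨u, hu, hua, huc, huR⟩ := hP.exists_swap_syl hac hR'
  have hun := mem_normalizer_of_cj huR
  set u' := g * u * g⁻¹ with hu'def
  have hu' : orderOf u' = 2 := by rw [Basic.orderOf_conj, hu]
  have hu'n : u' ∈ normalizer (R' : Set G) := mul_mem (mul_mem hgn hun) (inv_mem hgn)
  have hu'a : u' • a = g • c := by
    rw [hu'def, mul_smul, mul_smul, inv_smul_eq_iff.2 hga.symm, hua]
  obtain ⟨z, -, hz, O, hON, hOodd, hOnorm, hcos⟩ := (hP.rankOne hac hR').one_coset hun hu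
  have hOprod : ∀ i ∈ normalizer (R' : Set G), ∀ j ∈ normalizer (R' : Set G), orderOf i = 2 →
      orderOf j = 2 → i * j ∈ O := by
    intro i hi j hj hi2 hj2
    have e1 := mul_mem (hcos i hi hi2) (inv_mem (hcos j hj hj2))
    rw [mul_inv_rev, show i * z * (z⁻¹ * j⁻¹) = i * j⁻¹ by group, Basic.inv_eq hj2] at e1
    exact e1
  have hOu : ∀ o ∈ O, u * o * u ∈ O := fun o ho => by
    have := (mem_normalizer_iff.1 (hOnorm hun) o).1 ho
    rwa [Basic.inv_eq hu] at this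
  -- `a` is not in the orbit of `c` under the odd core
  have haD : a ∉ orbit ↥O c := by
    rintro ⟨o, ho⟩
    have ho' : (o : G) • c = a := ho
    set w := u * (o : G) with hw
    have hwc : w • c = c := by rw [hw, mul_smul, ho', hua]
    have hpow : ∀ j : ℕ, w ^ j * u ^ j ∈ O ∧ u ^ j * w ^ j ∈ O := by
      intro j
      induction j with
      | zero => simp
      | succ j ih =>
        refine ⟨?_, ?_⟩
        · rw [pow_succ' w, pow_succ u,
            show w * w ^ j * (u ^ j * u) = u * ((o : G) * (w ^ j * u ^ j)) * u by rw [hw]; group]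
          exact hOu _ (mul_mem o.2 ih.1)
        · rw [pow_succ w, pow_succ' u,
            show u * u ^ j * (w ^ j * w) = u * (u ^ j * w ^ j) * u * (o : G) by rw [hw]; group]
          exact mul_mem (hOu _ ih.2) o.2
    have heven : Even (orderOf w) := by
      by_contra hodd
      obtain ⟨m, hm⟩ := Nat.not_even_iff_odd.1 hodd
      have h1 := (hpow (orderOf w)).1
      rw [pow_orderOf_eq_one, one_mul, hm, pow_succ, pow_mul, pow_two, Basic.inv_sq_one hu, one_pow,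
        one_mul] at h1
      have h2 := SECore.odd_orderOf_of_mem hOodd h1
      rw [hu] at h2
      exact Nat.not_odd_iff_even.2 even_two h2
    obtain ⟨m, hm⟩ := heven
    have hpos := orderOf_pos w
    have h2 : orderOf (w ^ m) = 2 := by
      rw [orderOf_pow' _ (by omega), hm, Nat.gcd_eq_right (⟨2, by omega⟩ : m ∣ m + m)]
      rw [show m + m = 2 * m by omega, Nat.mul_div_cancel _ (by omega)]
    exact hP.no_fix hac hR' (pow_mem (mul_mem hun (hON o.2)) m) h2 hR'c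
      (mem_stabilizer_iff.1 (pow_mem (mem_stabilizer_iff.2 hwc) m))
  have hc'D : g • c ∈ orbit ↥O c := by
    refine ⟨⟨u' * u, hOprod _ hu'n _ hun hu' hu⟩, ?_⟩
    show (u' * u) • c = g • c
    rw [mul_smul, huc, hu'a]
  have hdisj : ∀ y, y ∈ orbit ↥O a → y ∉ orbit ↥O c := fun y hy hyc => haD (by
    rw [← orbit_eq_iff.2 hyc, orbit_eq_iff.2 hy]
    exact mem_orbit_self a)
  have hR'gc : R' ≤ stabilizer G (g • c) := smul_fix_of_normalizer hgn hR'c
  -- the pair `c, g • c` has a Sylow subgroup of the largest order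
  obtain ⟨T, hR'T, hT⟩ := exists_isSyl_ge (p := p) hR'.2.1 (le_inf hR'c hR'gc)
  have hTne : R' ≠ T := by
    rintro rfl
    obtain ⟨v, hv, hvc, hvc', hvR⟩ := hP.exists_swap_syl hgc.symm hT
    refine hdisj (g • c) ⟨⟨v * u, hOprod _ (mem_normalizer_of_cj hvR) _ hun hv hu⟩, ?_⟩ hc'D
    show (v * u) • a = g • c
    rw [mul_smul, hua, hvc]
  have hR'ltT : Nat.card ↥R' < Nat.card ↥T := by
    by_contra hle
    exact hTne (eq_of_le_of_card_ge hR'T (not_lt.1 hle))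
  have hTR := hbig c (g • c) hgc.symm T hT hR'ltT
  have hTmax : ∀ x' y' : G ⧸ H, x' ≠ y' → ∀ T' : Subgroup G, IsSyl p T' (Dp x' y') →
      Nat.card ↥T' ≤ Nat.card ↥T := fun x' y' hne T' hT' => (hmax x' y' hne T' hT').trans hTR
  set Q := T ⊓ normalizer (R' : Set G)
  have hR'Q : R' ≤ Q := le_inf hR'T le_normalizer
  have hR'Qlt : Nat.card ↥R' < Nat.card ↥Q := by
    by_contra hle
    obtain ⟨q, hqT, hqR, hqn⟩ := exists_mem_normalizer hT.2.1 (lt_of_le_of_ne hR'T hTne)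
    exact hqR ((eq_of_le_of_card_ge hR'Q (not_lt.1 hle)).symm.le (mem_inf.2 ⟨hqT, hqn⟩))
  have hQc : ∀ q ∈ Q, q • c = c := fun q hq => (mem_inf.1 (hT.1 (mem_inf.1 hq).1)).1
  have hQc' : ∀ q ∈ Q, q • (g • c) = g • c := fun q hq => (mem_inf.1 (hT.1 (mem_inf.1 hq).1)).2
  -- `Q` fixes just two fixed points of `R'`
  have hQfix : ∀ d : G ⧸ H, Q ≤ stabilizer G d → d = c ∨ d = g • c := by
    intro d hQd
    by_contra hd
    push Not at hd
    set K := Q ⊓ Ux c
    have hK : K ≠ ⊥ := by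
      intro hK
      have hidx := (hP.index c Q (fun q hq => hQc q hq) (hT.2.1.to_le inf_le_left)).1
      have h1 : (Ux c).subgroupOf Q = ⊥ := subgroupOf_eq_bot.2 (by
        rw [disjoint_iff, inf_comm]; exact hK)
      rw [h1, index_bot] at hidx
      have := Nat.le_of_dvd (by have := hP.one_lt_pPart; omega) hidx
      have := hP.pPart_le hac hR'
      omega
    have hKc' : K ≤ Ux (g • c) := fun q hq => by
      have h1 : q ∈ T ⊓ Ux c := mem_inf.2 ⟨(mem_inf.1 (mem_inf.1 hq).1).1, (mem_inf.1 hq).2⟩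
      rw [hP.max_U hgc.symm hT hTmax IH] at h1
      exact (mem_inf.1 h1).2
    obtain ⟨T', hQT', hT'⟩ := exists_isSyl_ge (p := p) (hT.2.1.to_le (inf_le_left : Q ≤ T))
      (show Q ≤ Dp c d from fun q hq => mem_inf.2 ⟨hQc q hq, hQd hq⟩)
    have hT'R := hbig c d hd.1.symm T' hT' (hR'Qlt.trans_le (card_le_of_le hQT'))
    have hKd : K ≤ Ux d := fun q hq => by
      have h1 : q ∈ T' ⊓ Ux c := mem_inf.2 ⟨hQT' (mem_inf.1 hq).1, (mem_inf.1 hq).2⟩
      rw [hP.max_U hd.1.symm hT' (fun x' y' hne S hS => (hmax x' y' hne S hS).trans hT'R) IH] at h1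
      exact (mem_inf.1 h1).2
    set X := normalizer (K : Set G)
    have hQX : Q ≤ X := fun q hq => mem_normalizer_of_le fun r hr => mem_inf.2
      ⟨mul_mem (mul_mem hq (mem_inf.1 hr).1) (inv_mem hq), Ux_normal (hQc q hq) (mem_inf.1 hr).2⟩
    have hWc : Wx c ≤ X := hP.Wx_le_normalizer inf_le_right
    have hWc' : Wx (g • c) ≤ X := hP.Wx_le_normalizer hKc'
    have hWd : Wx d ≤ X := hP.Wx_le_normalizer hKd
    obtain ⟨a1, ha1, b1, hb1, ha11, hb11, hab1⟩ := h.exists_two_Wx c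
    obtain ⟨w', hw', hw'1⟩ := h.exists_ne_one_Wx (g • c)
    have hS := h.slice IH (hP.normalizer_ne_top (fun q hq => hQc q (mem_inf.1 hq).1) hK)
      ⟨w', hWc' hw', fun e => hgc (h.fix_eq hw' hw'1 e)⟩ (hWc ha1) (hWc hb1) ha1 hb1 ha11 hb11 hab1
    have horb : ∀ e : G ⧸ H, Wx e ≤ X → e ∈ orbit ↥X c := by
      intro e he
      obtain ⟨w, hw, hw1⟩ := h.exists_ne_one_Wx e
      obtain ⟨y, hy, hwy⟩ := hS.involution w (he hw) (h.orderOf_mem_Wx hw hw1)
      rwa [h.fix_eq hw hw1 hwy]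
    obtain ⟨g0, hg0, hg0U⟩ : ∃ g0 ∈ R', g0 ∉ Ux c := by
      by_contra hcon'
      push Not at hcon'
      have h1 := hP.card_syl' hac hR'
      rw [inf_eq_left.2 (fun r hr => hcon' r hr)] at h1
      have h2 := hP.one_lt_pPart
      have h3 := Nat.card_pos (α := ↥R')
      nlinarith
    have hg0Q := hR'Q hg0
    exact hd.2 (hS.fix_unique h (hQX hg0Q) (hQc g0 hg0Q)
      (fun s hs => h.fpf_Sx (hP.fpf c g0 (hQc g0 hg0Q) (hP.exists_pow hR'.2.1 hg0 c) hg0U) s
        (mem_inf.1 hs).1)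
      (horb _ hWc') (horb _ hWd) hgc hd.1 (hQc' g0 hg0Q) (hQd hg0Q)).symm
  -- count the fixed points of `Q` in the two orbits of the odd core
  have hQO : ∀ q ∈ Q, ∀ o ∈ O, q * o * q⁻¹ ∈ O := fun q hq o ho =>
    (mem_normalizer_iff.1 (hOnorm (mem_inf.1 hq).2) o).1 ho
  have hinv2 : ∀ q ∈ Q, ∀ y ∈ orbit ↥O c, q • y ∈ orbit ↥O c := by
    rintro q hq _ ⟨o, rfl⟩
    refine ⟨⟨_, hQO q hq o o.2⟩, ?_⟩
    show (q * (o : G) * q⁻¹) • c = q • ((o : G) • c)
    rw [mul_smul, mul_smul, inv_smul_eq_iff.2 (hQc q hq).symm]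
  have hinv1 : ∀ q ∈ Q, ∀ y ∈ orbit ↥O a, q • y ∈ orbit ↥O a := by
    rintro q hq _ ⟨o, rfl⟩
    have hqu : q * u * q⁻¹ * u ∈ O := hOprod _ (mul_mem (mul_mem (mem_inf.1 hq).2 hun)
      (inv_mem (mem_inf.1 hq).2)) _ hun (by rw [Basic.orderOf_conj, hu]) hu
    refine ⟨⟨_, mul_mem (hQO q hq o o.2) hqu⟩, ?_⟩
    show (q * (o : G) * q⁻¹ * (q * u * q⁻¹ * u)) • a = q • ((o : G) • a)
    rw [mul_smul (q * (o : G) * q⁻¹), mul_smul (q * u * q⁻¹), hua, mul_smul (q * u),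
      inv_smul_eq_iff.2 (hQc q hq).symm, mul_smul q u, huc, mul_smul, inv_smul_smul, mul_smul]
  have hinΦ : ∀ e : G ⧸ H, R' ≤ stabilizer G e → ∀ y ∈ orbit ↥O e, R' ≤ stabilizer G y := by
    rintro e he _ ⟨o, rfl⟩
    exact smul_fix_of_normalizer (hON o.2) he
  have h2 := ncard_fixed_modEq (S := orbit ↥O c) (hT.2.1.to_le (inf_le_left : Q ≤ T)) hinv2
  have h1 := ncard_fixed_modEq (S := orbit ↥O a) (hT.2.1.to_le (inf_le_left : Q ≤ T)) hinv1
  have e2 : {y ∈ orbit ↥O c | ∀ q ∈ Q, q • y = y} = {c, g • c} := by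
    ext y
    refine ⟨fun hy => hQfix y fun q hq => hy.2 q hq, ?_⟩
    rintro (rfl | rfl)
    exacts [⟨mem_orbit_self _, hQc⟩, ⟨hc'D, hQc'⟩]
  have e1 : {y ∈ orbit ↥O a | ∀ q ∈ Q, q • y = y} = ∅ := by
    refine Set.eq_empty_of_forall_notMem fun y hy => hdisj y hy.1 ?_
    rcases hQfix y (fun q hq => hy.2 q hq) with rfl | rfl
    exacts [mem_orbit_self _, hc'D]
  rw [e2, Set.ncard_pair hgc.symm] at h2
  rw [e1, Set.ncard_empty] at h1
  have e3 : (orbit ↥O a).ncard = (orbit ↥O c).ncard := by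
    have him : (fun y => u • y) '' orbit ↥O c = orbit ↥O a := by
      ext y
      constructor
      · rintro ⟨_, ⟨o, rfl⟩, rfl⟩
        refine ⟨⟨_, hOu o o.2⟩, ?_⟩
        show (u * (o : G) * u) • a = u • ((o : G) • c)
        rw [mul_smul, mul_smul, hua]
      · rintro ⟨o, rfl⟩
        refine ⟨(u * (o : G) * u) • c, ⟨⟨_, hOu o o.2⟩, rfl⟩, ?_⟩
        show u • ((u * (o : G) * u) • c) = (o : G) • a
        rw [mul_smul, mul_smul, huc, smul_smul, Basic.inv_sq_one hu, one_smul]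
    rw [← him, Set.ncard_image_of_injective _ (MulAction.injective u)]
  rw [e3] at h1
  exact hP.p_ne_two ((Nat.prime_dvd_prime_iff_eq hP.prime Nat.prime_two).1
    (Nat.modEq_zero_iff_dvd.1 (h2.symm.trans h1)))

/-- The group is transitive on ordered pairs of distinct points, and Sylow subgroups of two-point
stabilizers have the largest order possible. -/
theorem Par.two_facts [FaithfulSMul G (G ⧸ H)] (IH : IndHyp G) :
    (∀ x y x' y' : G ⧸ H, x ≠ y → x' ≠ y' → ∃ g : G, g • x = x' ∧ g • y = y') ∧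
    ∀ (x y : G ⧸ H) (T : Subgroup G), x ≠ y → IsSyl p T (Dp x y) →
      ∀ x' y' : G ⧸ H, x' ≠ y' → ∀ T' : Subgroup G, IsSyl p T' (Dp x' y') →
        Nat.card ↥T' ≤ Nat.card ↥T := by
  haveI := hP.fact
  obtain ⟨x0, y0, R, hxy0, hR, hmax⟩ := hP.exists_max
  have heq := hP.card_syl_eq IH hxy0 hR hmax
  have key : ∀ x y : G ⧸ H, x ≠ y → ∃ g : G, g • x0 = x ∧ g • y0 = y := by
    intro x y hxy
    obtain ⟨T, hT⟩ := exists_isSyl (p := p) (Dp x y)
    obtain ⟨g, -, hg⟩ := hP.max_conj hxy0 hR hmax hxy hT (heq x y hxy T hT).ge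
    exact ⟨g, hg⟩
  refine ⟨fun x y x' y' hxy hxy' => ?_, fun x y T hxy hT x' y' hxy' T' hT' => ?_⟩
  · obtain ⟨g1, h11, h12⟩ := key x y hxy
    obtain ⟨g2, h21, h22⟩ := key x' y' hxy'
    exact ⟨g2 * g1⁻¹, by rw [mul_smul, ← h11, inv_smul_smul, h21],
      by rw [mul_smul, ← h12, inv_smul_smul, h22]⟩
  · rw [heq x y hxy T hT]
    exact hmax x' y' hxy' T' hT'

end Cfsg.Agent.SETwoClosed
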