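import Mathlib
import Cfsg.Agent.Lib.SETwoClosed.Two

/-!
# Strongly embedded subgroups with a normal Sylow 2-subgroup: `p`-subgroups fixing three points

A `p`-subgroup fixing three points acts trivially on the involutions fixing each of them.
-/

set_option autoImplicit false
set_option linter.style.haveILetI false
set_option linter.unusedSectionVars false

namespace Cfsg.Agent.SETwoClosed

open Subgroup MulAction
open Cfsg.Agent.Involutions

universe u

variable {G : Type u} [Group G] [Finite G] {H : Subgroup G}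

/-- The common kernel of two points is centralized by the swappers. -/
theorem Hyp.commute_swap (h : Hyp H) {x y : G ⧸ H} (hxy : x ≠ y) {v e : G} (hv : orderOf v = 2)
    (hvx : v • x = y) (he : e ∈ Ux x) (he' : e ∈ Ux y) : Commute e v := by
  have hvy : v • y = x := by rw [← hvx, smul_smul, Basic.inv_sq_one hv, one_smul]
  have hvv := Basic.inv_sq_one hv
  have hvi := Basic.inv_eq hv
  set i := e⁻¹ * (v * e * v) with hi
  have h1 : v * e * v ∈ Ux x := by
    have := Ux_conj (g := v) he'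
    rwa [hvy, hvi] at this
  have h2 : v * e * v ∈ Ux y := by
    have := Ux_conj (g := v) he
    rwa [hvx, hvi] at this
  have hix : i ∈ Ux x := mul_mem (inv_mem he) h1
  have hiy : i ∈ Ux y := mul_mem (inv_mem he') h2
  have hinv : v * i * v⁻¹ = i⁻¹ := by
    rw [hvi, hi]
    calc v * (e⁻¹ * (v * e * v)) * v = v * e⁻¹ * v * e * (v * v) := by group
      _ = v⁻¹ * e⁻¹ * v⁻¹ * e := by rw [hvv, hvi, mul_one]
      _ = _ := by group
  have hodd : Odd (Nat.card ↥(zpowers i)) := (h.odd_D hxy).of_dvd_nat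
    (card_dvd_of_le (zpowers_le.2 (mem_inf.2 ⟨Ux_le x hix, Ux_le y hiy⟩)))
  have hcent : Wx x ≤ normalizer (zpowers i : Set G) := fun w hw =>
    centralizer_le_normalizer _ (mem_centralizer_iff.2 fun k hk =>
      ((mem_Ux.1 (zpowers_le.2 hix hk)).2 w hw).symm)
  have hvn : v ∈ normalizer (zpowers i : Set G) := by
    refine mem_normalizer_of_le fun r hr => ?_
    obtain ⟨k, rfl⟩ := mem_zpowers_iff.1 hr
    rw [← conj_zpow, hinv]
    exact zpow_mem (inv_mem (mem_zpowers i)) k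
  obtain ⟨a, ha, b, hb, ha1, hb1, hab⟩ := h.exists_two_Wx x
  have h3 := mem_centralizer_iff.1 (h.four_centralise hodd (hcent ha) (hcent hb) (h.orderOf_mem_Wx ha ha1)
    (h.orderOf_mem_Wx hb hb1) (h.Wx_comm ha hb) hab v hvn hv) i (mem_zpowers i)
  rw [← h3, mul_inv_cancel_right] at hinv
  have h4 : i = 1 := by
    refine TwoEl.eq_one_of_odd ⟨1, by rw [pow_one, pow_two]; exact mul_eq_one_iff_eq_inv.2 hinv⟩ ?_
    rwa [← Nat.card_zpowers]
  rw [hi, inv_mul_eq_one] at h4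
  show e * v = v * e
  calc e * v = v * e * v * v := by rw [← h4]
    _ = v * e := by rw [mul_assoc, hvv, mul_one]

variable {n p : ℕ} (hP : Par H n p) [FaithfulSMul G (G ⧸ H)] (IH : IndHyp G)
include hP IH

theorem Par.syl_max {x y : G ⧸ H} (hxy : x ≠ y) {T : Subgroup G} (hT : IsSyl p T (Dp x y)) :
    ∀ x' y' : G ⧸ H, x' ≠ y' → ∀ T' : Subgroup G, IsSyl p T' (Dp x' y') → Nat.card ↥T' ≤ Nat.card ↥T :=
  (hP.two_facts IH).2 x y T hxy hT

theorem Par.syl_U {x y : G ⧸ H} (hxy : x ≠ y) {T : Subgroup G} (hT : IsSyl p T (Dp x y)) :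
    T ⊓ Ux x = T ⊓ Ux y :=
  hP.max_U hxy hT (hP.syl_max IH hxy hT) IH

theorem Par.syl_fix {x y z : G ⧸ H} (hxy : x ≠ y) {T : Subgroup G} (hT : IsSyl p T (Dp x y))
    (hz : T ≤ stabilizer G z) : z = x ∨ z = y :=
  hP.max_fix hxy hT (hP.syl_max IH hxy hT) hz

/-- In a pair with `R` in both stabilizers, `R` is in one kernel only if it is in the other. -/
theorem Par.le_U_symm {x y : G ⧸ H} (hxy : x ≠ y) {R : Subgroup G} (hR : IsPGroup p ↥R)
    (hx : R ≤ stabilizer G x) (hy : R ≤ stabilizer G y) (hU : R ≤ Ux x) : R ≤ Ux y := by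
  obtain ⟨T, hRT, hT⟩ := exists_isSyl_ge hR (show R ≤ Dp x y from le_inf hx hy)
  intro r hr
  have h1 : r ∈ T ⊓ Ux x := mem_inf.2 ⟨hRT hr, hU hr⟩
  rw [hP.syl_U IH hxy hT] at h1
  exact (mem_inf.1 h1).2

/-- A `p`-subgroup centralized by a swapper acts trivially on the involutions. -/
theorem Par.le_U_of_cent {x y : G ⧸ H} (hxy : x ≠ y) {R : Subgroup G} (hR : IsPGroup p ↥R) {u : G}
    (hu : orderOf u = 2) (hux : u • x = y) (hle : R ≤ centralizer ({u} : Set G) ⊓ Dp x y) :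
    R ≤ Ux x := by
  obtain ⟨T, hT, -, hRT, hcard⟩ := hP.exists_invariant_syl hxy hu hux hR hle
  have h1 : T ⊓ Ux x ≤ centralizer ({u} : Set G) ⊓ T := fun t ht => by
    refine mem_inf.2 ⟨mem_centralizer_singleton_iff.2 ?_, (mem_inf.1 ht).1⟩
    have h2 := ht
    rw [hP.syl_U IH hxy hT] at h2
    exact hP.hyp.commute_swap hxy hu hux (mem_inf.1 ht).2 (mem_inf.1 h2).2
  have h2 : T ⊓ Ux x = centralizer ({u} : Set G) ⊓ T := eq_of_le_of_card_ge h1 (le_of_eq (by
    rw [hP.card_syl hxy hT] at hcard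
    exact (Nat.eq_of_mul_eq_mul_left (by have := hP.one_lt_pPart; omega) hcard).symm))
  exact hRT.trans (h2.symm.le.trans inf_le_right)

/-- A `p`-subgroup acting nontrivially on the involutions of one of its fixed points fixes at most two. -/
theorem Par.fix_two {x y z : G ⧸ H} {R : Subgroup G} (hxy : x ≠ y) (hR : IsPGroup p ↥R)
    (hx : R ≤ stabilizer G x) (hy : R ≤ stabilizer G y) (hz : R ≤ stabilizer G z) (hU : ¬ R ≤ Ux x) :
    z = x ∨ z = y := by
  classical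
  haveI := hP.fact
  have h := hP.hyp
  by_contra hzxy
  obtain ⟨R, ⟨hR, x, y, z, hxy, hzxy, hx, hy, hz, hU⟩, hmax⟩ := Set.exists_max_image
    {R : Subgroup G | IsPGroup p ↥R ∧ ∃ x y z : G ⧸ H, x ≠ y ∧ ¬ (z = x ∨ z = y) ∧ R ≤ stabilizer G x ∧
      R ≤ stabilizer G y ∧ R ≤ stabilizer G z ∧ ¬ R ≤ Ux x}
    (fun R => Nat.card ↥R) (Set.toFinite _) ⟨R, hR, x, y, z, hxy, hzxy, hx, hy, hz, hU⟩
  push Not at hzxy
  set Φ : Set (G ⧸ H) := {v | R ≤ stabilizer G v} with hΦ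
  have hUall : ∀ v ∈ Φ, ¬ R ≤ Ux v := fun v hv hle => by
    by_cases hvx : v = x
    · exact hU (hvx ▸ hle)
    · exact hU (hP.le_U_symm IH hvx hR hv hx hle)
  set Y := normalizer (R : Set G)
  -- the larger subgroups fix two points
  have hlarge : ∀ Q : Subgroup G, IsPGroup p ↥Q → R ≤ Q → Nat.card ↥R < Nat.card ↥Q →
      ∀ v w d : G ⧸ H, v ≠ w → Q ≤ stabilizer G v → Q ≤ stabilizer G w → Q ≤ stabilizer G d →
        d = v ∨ d = w := by
    intro Q hQ hRQ hlt v w d hvw hv hw hd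
    by_contra hdvw
    exact (hmax Q ⟨hQ, v, w, d, hvw, hdvw, hv, hw, hd, fun hle =>
      hUall v (hRQ.trans hv) (hRQ.trans hle)⟩).not_gt hlt
  have hN : ∀ v ∈ Φ, ∀ w ∈ Φ, v ≠ w → ∃ N : Subgroup G, IsPGroup p ↥N ∧ R ≤ N ∧ N ≤ Y ∧
      Nat.card ↥R < Nat.card ↥N ∧ N ≤ stabilizer G v ∧ N ≤ stabilizer G w := by
    intro v hv w hw hvw
    obtain ⟨T, hRT, hT⟩ := exists_isSyl_ge hR (show R ≤ Dp v w from le_inf hv hw)
    have hne : R ≠ T := by
      rintro rfl
      rcases hP.syl_fix IH hvw hT hx with rfl | rfl <;> rcases hP.syl_fix IH hvw hT hy with rfl | rfl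
      · exact hxy rfl
      · rcases hP.syl_fix IH hvw hT hz with e | e
        exacts [hzxy.1 e, hzxy.2 e]
      · rcases hP.syl_fix IH hvw hT hz with e | e
        exacts [hzxy.2 e, hzxy.1 e]
      · exact hxy rfl
    obtain ⟨g, hgT, hgR, hgn⟩ := exists_mem_normalizer hT.2.1 (lt_of_le_of_ne hRT hne)
    refine ⟨T ⊓ Y, hT.2.1.to_le inf_le_left, le_inf hRT le_normalizer, inf_le_right, ?_,
      inf_le_left.trans (hT.1.trans inf_le_left), inf_le_left.trans (hT.1.trans inf_le_right)⟩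
    by_contra hle
    exact hgR ((eq_of_le_of_card_ge (le_inf hRT le_normalizer) (not_lt.1 hle)).symm.le
      (mem_inf.2 ⟨hgT, hgn⟩))
  have hinv : ∀ g ∈ Y, ∀ v ∈ Φ, g • v ∈ Φ := fun g hg v hv => smul_fix_of_normalizer hg hv
  obtain ⟨N0, hN0p, hRN0, hN0Y, hN0lt, hN0x, hN0y⟩ := hN x hx y hy hxy
  have hΦ2 : Φ.ncard ≡ 2 [MOD p] := by
    have h1 := ncard_fixed_modEq hN0p (S := Φ) fun g hg v hv => hinv g (hN0Y hg) v hv
    have e : {v ∈ Φ | ∀ g ∈ N0, g • v = v} = {x, y} := by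
      ext v
      refine ⟨fun hv => hlarge N0 hN0p hRN0 hN0lt x y v hxy hN0x hN0y fun g hg => hv.2 g hg, ?_⟩
      rintro (rfl | rfl)
      exacts [⟨hx, fun g hg => hN0x hg⟩, ⟨hy, fun g hg => hN0y hg⟩]
    rwa [e, Set.ncard_pair hxy] at h1
  obtain ⟨L, hN0L, hL⟩ := exists_isSyl_ge hN0p hN0Y
  have hRL : R ≤ L := hRN0.trans hN0L
  have hLlt : Nat.card ↥R < Nat.card ↥L := hN0lt.trans_le (card_le_of_le hN0L)
  obtain ⟨l1, l2, hl1, hl2, hl12, hL1, hL2⟩ : ∃ l1 l2 : G ⧸ H, l1 ∈ Φ ∧ l2 ∈ Φ ∧ l1 ≠ l2 ∧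
      L ≤ stabilizer G l1 ∧ L ≤ stabilizer G l2 := by
    have h1 := (ncard_fixed_modEq hL.2.1 (S := Φ) fun g hg v hv => hinv g (hL.1 hg) v hv).symm.trans hΦ2
    have h3 : 1 < {v ∈ Φ | ∀ g ∈ L, g • v = v}.ncard := by
      by_contra hle
      have hp3 : 3 ≤ p := by
        have := hP.prime.two_le
        have := hP.p_ne_two
        omega
      have := Nat.ModEq.eq_of_lt_of_lt h1 (by omega) (by omega)
      omega
    obtain ⟨l1, hl1, l2, hl2, hne⟩ := (Set.one_lt_ncard (Set.toFinite _)).1 h3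
    exact ⟨l1, l2, hl1.1, hl2.1, hne, fun g hg => hl1.2 g hg, fun g hg => hl2.2 g hg⟩
  -- transitivity on unordered pairs
  have hpair : ∀ v ∈ Φ, ∀ w ∈ Φ, v ≠ w → ∃ k ∈ Y, (k • l1 = v ∧ k • l2 = w) ∨ (k • l1 = w ∧ k • l2 = v) := by
    intro v hv w hw hvw
    obtain ⟨N, hNp, hRN, hNY, hNlt, hNv, hNw⟩ := hN v hv w hw hvw
    obtain ⟨L', hNL', hL'⟩ := exists_isSyl_ge hNp hNY
    obtain ⟨k, hk, hkL⟩ := hL.conj hL'
    have hfix : ∀ l : G ⧸ H, L ≤ stabilizer G l → k • l = v ∨ k • l = w := fun l hl =>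
      hlarge N hNp hRN hNlt v w (k • l) hvw hNv hNw fun g hg => by
        obtain ⟨r, hr, rfl⟩ := hkL.symm ▸ hNL' hg
        exact stab_conj (hl hr)
    refine ⟨k, hk, ?_⟩
    rcases hfix l1 hL1 with h1 | h1 <;> rcases hfix l2 hL2 with h2 | h2
    · exact absurd (MulAction.injective k (h1.trans h2.symm)) hl12
    · exact Or.inl ⟨h1, h2⟩
    · exact Or.inr ⟨h1, h2⟩
    · exact absurd (MulAction.injective k (h1.trans h2.symm)) hl12
  have hnofix : ∀ t ∈ Y, orderOf t = 2 → ∀ v ∈ Φ, t • v ≠ v := by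
    intro t htY ht v hv htv
    have htc := h.mem_cent_of_fix (hP.odd_card hR) htY ht htv hv
    obtain ⟨w, hw, hwv⟩ : ∃ w ∈ Φ, w ≠ v := by
      by_cases hvx : v = x
      exacts [⟨y, hy, fun e => hxy (e.trans hvx).symm⟩, ⟨x, hx, Ne.symm hvx⟩]
    have htw : t • w ≠ w := fun e => hwv (h.eq_of_fixed ht e htv)
    refine hUall w hw (hP.le_U_of_cent IH (Ne.symm htw) hR ht rfl fun r hr => mem_inf.2
      ⟨mem_centralizer_singleton_iff.2 (mem_centralizer_iff.1 htc r hr), mem_inf.2 ⟨hw hr, ?_⟩⟩)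
    exact hinv t htY w hw hr
  have hrank : SECore.RankOne Y := by
    intro a ha b hb ha2 hb2 hab
    by_contra hne
    have hac := h.four_centralise (hP.odd_card hR) ha hb ha2 hb2 hab hne a ha ha2
    obtain ⟨f, hf⟩ := h.exists_fixed (H := H) ha2
    exact hnofix a ha ha2 f (fun r hr => h.smul_of_commute (h.mem_Wx.2 ⟨hf, Basic.inv_sq_one ha2⟩)
      (Basic.ne_one ha2) (mem_centralizer_iff.1 hac r hr)) hf
  by_cases hinvol : ∃ t ∈ Y, orderOf t = 2
  · obtain ⟨t, htY, ht⟩ := hinvol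
    have htx := hnofix t htY ht x hx
    obtain ⟨k0, hk0, hk0'⟩ := hpair x hx (t • x) (hinv t htY x hx) (Ne.symm htx)
    -- `t₀` swaps `l1` and `l2`
    set t0 := k0⁻¹ * t * k0
    have ht0 : t0 • l1 = l2 ∧ t0 • l2 = l1 := by
      have htt : t • t • x = x := by rw [smul_smul, Basic.inv_sq_one ht, one_smul]
      simp only [t0, mul_smul]
      rcases hk0' with ⟨e1, e2⟩ | ⟨e1, e2⟩ <;> rw [e1, e2, htt]
      · exact ⟨by rw [← e2, inv_smul_smul], by rw [← e1, inv_smul_smul]⟩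
      · exact ⟨by rw [← e2, inv_smul_smul], by rw [← e1, inv_smul_smul]⟩
    refine hzxy.1 (hrank.no_triangle Φ (fun v hv s hs hs2 => hnofix s hs hs2 v hv) ?_ hz hy hx hzxy.2
      hxy.symm)
    intro v hv w hw hvw
    obtain ⟨k, hk, hk'⟩ := hpair v hv w hw hvw
    refine ⟨k * t0 * k⁻¹, mul_mem (mul_mem hk (mul_mem (mul_mem (inv_mem hk0) htY) hk0)) (inv_mem hk),
      by rw [Basic.orderOf_conj, show t0 = k0⁻¹ * t * k0⁻¹⁻¹ by simp [t0], Basic.orderOf_conj, ht], ?_⟩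
    rcases hk' with ⟨e1, e2⟩ | ⟨e1, e2⟩
    · rw [← e1, mul_smul, mul_smul, inv_smul_smul, ht0.1, e2]
    · rw [← e2, mul_smul, mul_smul, inv_smul_smul, ht0.2, e1]
  · -- no element swaps a pair
    have hnoswap : ∀ g ∈ Y, ∀ v w : G ⧸ H, g • v = w → g • w = v → v = w := by
      intro g hg v w e1 e2
      have hodd : Odd (orderOf g) := by
        by_contra hev
        obtain ⟨m, hm⟩ := Nat.not_odd_iff_even.1 hev
        have hpos := orderOf_pos g
        refine hinvol ⟨g ^ m, pow_mem hg m, ?_⟩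
        rw [orderOf_pow' _ (by omega), hm, Nat.gcd_eq_right (⟨2, by omega⟩ : m ∣ m + m)]
        rw [show m + m = 2 * m by omega, Nat.mul_div_cancel _ (by omega)]
      obtain ⟨j, hj⟩ := hodd
      have h1 : g ^ 2 ∈ stabilizer G v := by rw [mem_stabilizer_iff, pow_two, mul_smul, e1, e2]
      have h2 : g = (g ^ 2) ^ (j + 1) := by
        rw [← pow_mul, show 2 * (j + 1) = orderOf g + 1 by omega, pow_succ, pow_orderOf_eq_one, one_mul]
      rw [← e1, h2]
      exact (mem_stabilizer_iff.1 (pow_mem h1 _)).symm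
    set P : Set ((G ⧸ H) × (G ⧸ H)) := {q | ∃ k ∈ Y, k • l1 = q.1 ∧ k • l2 = q.2} with hPdef
    have hone : ∀ v w : G ⧸ H, (v, w) ∈ P → (w, v) ∉ P := by
      rintro v w ⟨k, hk, e1, e2⟩ ⟨k', hk', e3, e4⟩
      simp only at e1 e2 e3 e4
      refine hl12 (hnoswap (k'⁻¹ * k) (mul_mem (inv_mem hk') hk) l1 l2 ?_ ?_)
      · rw [mul_smul, e1, ← e4, inv_smul_smul]
      · rw [mul_smul, e2, ← e3, inv_smul_smul]
    have htr : ∀ v ∈ Φ, ∃ k ∈ Y, k • l1 = v := by
      have hsame : ∃ k ∈ Y, k • l1 = l2 := by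
        by_contra hno
        push Not at hno
        -- at most one point in each of the two orbits
        have hor : ∀ v ∈ Φ, (∃ k ∈ Y, k • l1 = v) ∨ ∃ k ∈ Y, k • l2 = v := by
          intro v hv
          obtain ⟨w, hw, hwv⟩ : ∃ w ∈ Φ, w ≠ v := by
            by_cases hvx : v = x
            exacts [⟨y, hy, fun e => hxy (e.trans hvx).symm⟩, ⟨x, hx, Ne.symm hvx⟩]
          obtain ⟨k, hk, h1 | h1⟩ := hpair v hv w hw (Ne.symm hwv)
          exacts [Or.inl ⟨k, hk, h1.1⟩, Or.inr ⟨k, hk, h1.2⟩]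
        have hone' : ∀ l, l = l1 ∨ l = l2 → ∀ v ∈ Φ, ∀ w ∈ Φ, (∃ k ∈ Y, k • l = v) →
            (∃ k ∈ Y, k • l = w) → v = w := by
          rintro l hl v hv w hw ⟨a, ha, hav⟩ ⟨b, hb, hbw⟩
          by_contra hvw
          obtain ⟨k, hk, hk'⟩ := hpair v hv w hw hvw
          rcases hk' with ⟨e1, e2⟩ | ⟨e1, e2⟩ <;> rcases hl with rfl | rfl
          · exact hno (k⁻¹ * b) (mul_mem (inv_mem hk) hb) (by rw [mul_smul, hbw, ← e2, inv_smul_smul])
          · exact hno (a⁻¹ * k) (mul_mem (inv_mem ha) hk) (by rw [mul_smul, e1, ← hav, inv_smul_smul])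
          · exact hno (k⁻¹ * a) (mul_mem (inv_mem hk) ha) (by rw [mul_smul, hav, ← e2, inv_smul_smul])
          · exact hno (b⁻¹ * k) (mul_mem (inv_mem hb) hk) (by rw [mul_smul, e1, ← hbw, inv_smul_smul])
        rcases hor x hx with a | a <;> rcases hor y hy with b | b <;> rcases hor z hz with c | c
        all_goals first
          | exact hxy (hone' _ (Or.inl rfl) x hx y hy a b)
          | exact hxy (hone' _ (Or.inr rfl) x hx y hy a b)
          | exact hzxy.1 (hone' _ (Or.inl rfl) z hz x hx c a)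
          | exact hzxy.1 (hone' _ (Or.inr rfl) z hz x hx c a)
          | exact hzxy.2 (hone' _ (Or.inl rfl) z hz y hy c b)
          | exact hzxy.2 (hone' _ (Or.inr rfl) z hz y hy c b)
      obtain ⟨k0, hk0, hk0e⟩ := hsame
      intro v hv
      obtain ⟨w, hw, hwv⟩ : ∃ w ∈ Φ, w ≠ v := by
        by_cases hvx : v = x
        exacts [⟨y, hy, fun e => hxy (e.trans hvx).symm⟩, ⟨x, hx, Ne.symm hvx⟩]
      obtain ⟨k, hk, h1 | h1⟩ := hpair v hv w hw (Ne.symm hwv)
      exacts [⟨k, hk, h1.1⟩, ⟨k * k0, mul_mem hk hk0, by rw [mul_smul, hk0e, h1.2]⟩]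
    have hPinv : ∀ g ∈ Y, ∀ v w : G ⧸ H, (v, w) ∈ P → (g • v, g • w) ∈ P := by
      rintro g hg v w ⟨k, hk, e1, e2⟩
      exact ⟨g * k, mul_mem hg hk, by simp only at e1 ⊢; rw [mul_smul, e1],
        by simp only at e2 ⊢; rw [mul_smul, e2]⟩
    set outS : G ⧸ H → Set (G ⧸ H) := fun v => {w | (v, w) ∈ P}
    set inS : G ⧸ H → Set (G ⧸ H) := fun v => {w | (w, v) ∈ P}
    -- the counts at `l1`
    have hLY : L ≤ Y := hL.1
    have hfixL : ∀ w : G ⧸ H, (∀ g ∈ L, g • w = w) → w = l1 ∨ w = l2 := fun w hw =>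
      hlarge L hL.2.1 hRL hLlt l1 l2 w hl12 hL1 hL2 fun g hg => hw g hg
    have hout : (outS l1).ncard ≡ 1 [MOD p] := by
      have h1 := ncard_fixed_modEq hL.2.1 (S := outS l1) fun g hg w hw => by
        have := hPinv g (hLY hg) _ _ hw
        rwa [mem_stabilizer_iff.1 (hL1 hg)] at this
      have e : {w ∈ outS l1 | ∀ g ∈ L, g • w = w} = {l2} := by
        ext w
        refine ⟨fun hw => (hfixL w hw.2).resolve_left fun e => ?_, ?_⟩
        · exact hone _ _ hw.1 (e ▸ (hw.1 : (l1, w) ∈ P))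
        · rintro rfl
          exact ⟨⟨1, one_mem _, one_smul _ _, one_smul _ _⟩, fun g hg => hL2 hg⟩
      rwa [e, Set.ncard_singleton] at h1
    have hin : (inS l1).ncard ≡ 0 [MOD p] := by
      have h1 := ncard_fixed_modEq hL.2.1 (S := inS l1) fun g hg w hw => by
        have := hPinv g (hLY hg) _ _ hw
        rwa [mem_stabilizer_iff.1 (hL1 hg)] at this
      have e : {w ∈ inS l1 | ∀ g ∈ L, g • w = w} = ∅ := by
        refine Set.eq_empty_of_forall_notMem fun w hw => ?_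
        rcases hfixL w hw.2 with rfl | rfl
        · exact hone _ _ hw.1 hw.1
        · exact hone _ _ (⟨1, one_mem _, one_smul _ _, one_smul _ _⟩) hw.1
      rwa [e, Set.ncard_empty] at h1
    -- double counting
    have hcardout : ∀ v ∈ Φ, (outS v).ncard = (outS l1).ncard ∧ (inS v).ncard = (inS l1).ncard := by
      intro v hv
      obtain ⟨k, hk, rfl⟩ := htr v hv
      constructor
      · rw [← Set.ncard_image_of_injective (outS l1) (MulAction.injective k)]
        congr 1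
        ext w
        refine ⟨fun hw => ⟨k⁻¹ • w, ?_, smul_inv_smul _ _⟩, ?_⟩
        · have := hPinv _ (inv_mem hk) _ _ hw
          rwa [inv_smul_smul] at this
        · rintro ⟨w', hw', rfl⟩
          exact hPinv k hk _ _ hw'
      · rw [← Set.ncard_image_of_injective (inS l1) (MulAction.injective k)]
        congr 1
        ext w
        refine ⟨fun hw => ⟨k⁻¹ • w, ?_, smul_inv_smul _ _⟩, ?_⟩
        · have := hPinv _ (inv_mem hk) _ _ hw
          rwa [inv_smul_smul] at this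
        · rintro ⟨w', hw', rfl⟩
          exact hPinv k hk _ _ hw'
    let Φf := (Set.toFinite Φ).toFinset
    let Pf := (Set.toFinite P).toFinset
    have hmaps : ∀ q ∈ Pf, q.1 ∈ Φf ∧ q.2 ∈ Φf := by
      intro q hq
      obtain ⟨k, hk, e1, e2⟩ := (Set.Finite.mem_toFinset _).1 hq
      exact ⟨(Set.Finite.mem_toFinset _).2 (e1 ▸ hinv k hk l1 hl1),
        (Set.Finite.mem_toFinset _).2 (e2 ▸ hinv k hk l2 hl2)⟩
    have h1 := Finset.card_eq_sum_card_fiberwise (f := Prod.fst) fun q hq => (hmaps q hq).1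
    have h2 := Finset.card_eq_sum_card_fiberwise (f := Prod.snd) fun q hq => (hmaps q hq).2
    have f1 : ∀ v ∈ Φf, (Pf.filter fun q => q.1 = v).card = (outS l1).ncard := by
      intro v hv
      rw [← (hcardout v ((Set.Finite.mem_toFinset _).1 hv)).1, ← Set.ncard_coe_finset,
        ← Set.ncard_image_of_injective (outS v) (Prod.mk_right_injective v)]
      congr 1
      ext ⟨a, b⟩
      simp [Pf, outS]
      constructor
      · rintro ⟨hq, rfl⟩; exact ⟨hq, rfl⟩
      · rintro ⟨hq, rfl⟩; exact ⟨hq, rfl⟩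
    have f2 : ∀ v ∈ Φf, (Pf.filter fun q => q.2 = v).card = (inS l1).ncard := by
      intro v hv
      rw [← (hcardout v ((Set.Finite.mem_toFinset _).1 hv)).2, ← Set.ncard_coe_finset,
        ← Set.ncard_image_of_injective (inS v) (Prod.mk_left_injective v)]
      congr 1
      ext ⟨a, b⟩
      simp [Pf, inS]
      constructor
      · rintro ⟨hq, rfl⟩; exact ⟨hq, rfl⟩
      · rintro ⟨hq, rfl⟩; exact ⟨hq, rfl⟩
    rw [Finset.sum_congr rfl f1, Finset.sum_const, smul_eq_mul] at h1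
    rw [Finset.sum_congr rfl f2, Finset.sum_const, smul_eq_mul, h1] at h2
    have h3 : (outS l1).ncard = (inS l1).ncard := Nat.eq_of_mul_eq_mul_left
      (Finset.card_pos.2 ⟨x, (Set.Finite.mem_toFinset _).2 hx⟩) h2
    rw [h3] at hout
    exact hP.prime.not_dvd_one (Nat.modEq_zero_iff_dvd.1 (hout.symm.trans hin))

end Cfsg.Agent.SETwoClosed
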