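import Mathlib
import Cfsg.Agent.Lib.SETwoClosed.Three
import Cfsg.Agent.Lib.SETwoClosed.Facts

/-!
# Strongly embedded subgroups with a normal Sylow 2-subgroup: the kernels of two points

The two kernels on involutions meet the two-point stabilizer in the same subgroup; the facts about pairs.
-/

set_option autoImplicit false
set_option linter.style.haveILetI false
set_option linter.unusedSectionVars false

namespace Cfsg.Agent.SETwoClosed

open Subgroup MulAction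
open Cfsg.Agent.Involutions

universe u

variable {G : Type u} [Group G] [Finite G] {H : Subgroup G}

theorem invol_conj_mul {u : G} (huu : u * u = 1) (a b : G) : u * (a * b) * u = (u * a * u) * (u * b * u) := by
  calc u * (a * b) * u = u * a * (u * u) * b * u := by rw [huu, mul_one]; group
    _ = _ := by group

theorem invol_conj_inv {u : G} (huu : u * u = 1) (a : G) : u * a⁻¹ * u = (u * a * u)⁻¹ := by
  have hui : u⁻¹ = u := inv_eq_of_mul_eq_one_right huu
  rw [mul_inv_rev, mul_inv_rev, hui, mul_assoc]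

/-- An element of a subgroup some `p`-th power of which lies in a second subgroup is the product of an
element of the second subgroup and a `p`-element. -/
theorem mem_of_pow_mem {p : ℕ} (hp : p.Prime) {K : Subgroup G} {e : G} {k : ℕ} (hk : e ^ p ^ k ∈ K)
    (hpart : ∀ a ∈ zpowers e, (∃ j : ℕ, a ^ p ^ j = 1) → a ∈ K) : e ∈ K := by
  set o := orderOf e
  set j := o.factorization p
  set m := o / p ^ j
  have ho : p ^ j * m = o := Nat.mul_div_cancel' (Nat.ordProj_dvd o p)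
  have hm : ¬ p ∣ m := Nat.not_dvd_ordCompl hp (orderOf_pos e).ne'
  have h1 : e ^ m ∈ K := hpart _ (pow_mem (mem_zpowers e) m) ⟨j, by
    rw [← pow_mul, mul_comm, ho, pow_orderOf_eq_one]⟩
  have hco : Nat.Coprime (p ^ k) m := Nat.Coprime.pow_left k ((hp.coprime_iff_not_dvd).2 hm)
  have h2 := Nat.gcd_eq_gcd_ab (p ^ k) m
  rw [Nat.Coprime.gcd_eq_one hco] at h2
  have h3 : e = (e ^ p ^ k) ^ ((p ^ k).gcdA m) * (e ^ m) ^ ((p ^ k).gcdB m) := by
    rw [← zpow_natCast e, ← zpow_natCast e, ← zpow_mul, ← zpow_mul, ← zpow_add]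
    conv_lhs => rw [← zpow_one e]
    exact congrArg (e ^ ·) (by exact_mod_cast h2)
  rw [h3]
  exact mul_mem (zpow_mem hk _) (zpow_mem h1 _)

variable {n p : ℕ} (hP : Par H n p) [FaithfulSMul G (G ⧸ H)] (IH : IndHyp G)
include hP IH

/-- The inverted element generating the image of a Sylow subgroup. -/
theorem Par.exists_inverted {x y : G ⧸ H} {u : G} (hxy : x ≠ y) (hu : orderOf u = 2) (hux : u • x = y) :
    ∃ c ∈ Dp x y, u * c * u = c⁻¹ ∧ orderOf c = pPart n p ∧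
      (∀ j : ℕ, c ^ j ∈ Ux x ↔ pPart n p ∣ j) ∧ ∀ j : ℕ, c ^ j ∈ Ux y ↔ pPart n p ∣ j := by
  classical
  haveI := hP.fact
  have h := hP.hyp
  obtain ⟨T, hT, huT, -, -⟩ := hP.exists_invariant_syl hxy hu hux IsPGroup.of_bot bot_le
  have huu := Basic.inv_sq_one hu
  have hui := Basic.inv_eq hu
  have huT' : ∀ t ∈ T, u * t * u ∈ T := fun t ht => by
    have := conj_mem_cj (g := u) ht
    rwa [huT, hui] at this
  set R0 := T ⊓ Ux x with hR0
  have hR0y : R0 = T ⊓ Ux y := hP.syl_U IH hxy hT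
  have hR0u : ∀ z ∈ R0, Commute z u := fun z hz =>
    h.commute_swap hxy hu hux (mem_inf.1 hz).2 (mem_inf.1 (hR0y ▸ hz : z ∈ T ⊓ Ux y)).2
  have hcentU : ∀ t ∈ T, Commute t u → t ∈ R0 := fun t ht htu => mem_inf.2 ⟨ht,
    hP.le_U_of_cent IH hxy (hT.2.1.to_le (zpowers_le.2 ht)) hu hux
      (zpowers_le.2 (mem_inf.2 ⟨mem_centralizer_singleton_iff.2 htu, hT.1 ht⟩)) (mem_zpowers t)⟩
  have hnorm : ∀ t ∈ T, ∀ z ∈ R0, t * z * t⁻¹ ∈ R0 := fun t ht z hz => mem_inf.2
    ⟨mul_mem (mul_mem ht (mem_inf.1 hz).1) (inv_mem ht),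
      Ux_normal (mem_inf.1 (hT.1 ht)).1 (mem_inf.1 hz).2⟩
  haveI hN : (R0.subgroupOf T).Normal := ⟨fun z hz t => hnorm t t.2 z hz⟩
  -- inverted elements centralize `R0` and represent their cosets uniquely
  have hinvc : ∀ i ∈ T, u * i * u = i⁻¹ → ∀ z ∈ R0, Commute i z := by
    intro i hi hiu z hz
    have h1 : u * (i * z * i⁻¹) * u = i * z * i⁻¹ := by
      rw [← (hR0u _ (hnorm i hi z hz)).eq, mul_assoc, huu, mul_one]
    have h2 : u * (i * z * i⁻¹) * u = i⁻¹ * z * i := by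
      calc u * (i * z * i⁻¹) * u = (u * i * u) * (u * z * u) * (u * i * u)⁻¹ := by
            rw [invol_conj_mul huu, invol_conj_mul huu, invol_conj_inv huu]
        _ = i⁻¹ * z * i := by rw [hiu, inv_inv, ← (hR0u z hz).eq, mul_assoc z u u, huu, mul_one]
    rw [h1] at h2
    have h3 : Commute (i * i) z := by
      show i * i * z = z * (i * i)
      calc i * i * z = i * (i * z * i⁻¹) * i := by group
        _ = i * (i⁻¹ * z * i) * i := by rw [h2]
        _ = z * (i * i) := by group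
    obtain ⟨j, hj⟩ := SECore.odd_orderOf_of_mem (hP.odd_card hT.2.1) hi
    have h4 : (i * i) ^ (j + 1) = i := by
      rw [← pow_two, ← pow_mul, show 2 * (j + 1) = orderOf i + 1 by omega, pow_succ, pow_orderOf_eq_one,
        one_mul]
    exact h4 ▸ h3.pow_left (j + 1)
  have huniq : ∀ i ∈ T, ∀ j ∈ T, u * i * u = i⁻¹ → u * j * u = j⁻¹ → i * j⁻¹ ∈ R0 → i = j := by
    intro i hi j hj hiu hju hij
    set z := i * j⁻¹
    have hiz : i = z * j := by simp [z]
    have h1 : u * i * u = z * j⁻¹ := by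
      calc u * i * u = u * z * j * u := by rw [hiz]; group
        _ = z * (u * j * u) := by rw [← (hR0u z hij).eq]; group
        _ = z * j⁻¹ := by rw [hju]
    rw [hiu, hiz, mul_inv_rev, ((hinvc j hj hju z hij).inv_left).inv_right.eq] at h1
    have h2 : z = 1 := by
      refine TwoEl.eq_one_of_odd ⟨1, ?_⟩ (SECore.odd_orderOf_of_mem (hP.odd_card hT.2.1) (mem_inf.1 hij).1)
      rw [pow_one, pow_two]
      exact (mul_eq_one_iff_eq_inv).2 (mul_right_cancel h1).symm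
    rw [hiz, h2, one_mul]
  have hcardR0 : (R0.subgroupOf T).index = pPart n p := by
    have h1 := index_mul_card (R0.subgroupOf T)
    rw [Nat.card_congr (subgroupOfEquivOfLe (inf_le_left : R0 ≤ T)).toEquiv,
      hP.card_syl hxy hT] at h1
    exact Nat.eq_of_mul_eq_mul_right Nat.card_pos h1
  -- every coset contains an inverted element
  let ψ : ↥T ⧸ R0.subgroupOf T → ↥T := fun q => ⟨(q.out : G)⁻¹ * (u * q.out * u),
    mul_mem (inv_mem q.out.2) (huT' _ q.out.2)⟩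
  have hψ : ∀ q, u * (ψ q : G) * u = (ψ q : G)⁻¹ := fun q => by
    show u * ((q.out : G)⁻¹ * (u * q.out * u)) * u = ((q.out : G)⁻¹ * (u * q.out * u))⁻¹
    rw [mul_inv_rev, mul_inv_rev, mul_inv_rev, inv_inv, hui]
    calc u * ((q.out : G)⁻¹ * (u * q.out * u)) * u = u * (q.out : G)⁻¹ * u * q.out * (u * u) := by group
      _ = _ := by rw [huu, mul_one]; group
  have hψinj : Function.Injective fun q => (ψ q : ↥T ⧸ R0.subgroupOf T) := by
    intro q r hqr
    have h1 : (ψ r : G) * (ψ q : G)⁻¹ ∈ R0 := by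
      have h2 := (QuotientGroup.eq_iff_div_mem).1 hqr.symm
      rwa [div_eq_mul_inv] at h2
    have h2 : (ψ r : G) = ψ q := huniq _ (ψ r).2 _ (ψ q).2 (hψ r) (hψ q) h1
    have h3 : (r.out : G) * (q.out : G)⁻¹ * u = u * ((r.out : G) * (q.out : G)⁻¹) := by
      have h4 : (r.out : G)⁻¹ * (u * r.out * u) = (q.out : G)⁻¹ * (u * q.out * u) := h2
      calc (r.out : G) * (q.out : G)⁻¹ * u
          = (r.out : G) * ((q.out : G)⁻¹ * (u * q.out * u)) * (u⁻¹ * (q.out : G)⁻¹) := by group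
        _ = (r.out : G) * ((r.out : G)⁻¹ * (u * r.out * u)) * (u⁻¹ * (q.out : G)⁻¹) := by rw [h4]
        _ = _ := by group
    have h5 : ((r.out : ↥T) / q.out : ↥T) ∈ R0.subgroupOf T := by
      rw [div_eq_mul_inv]
      exact hcentU _ (mul_mem r.out.2 (inv_mem q.out.2)) h3
    rw [← QuotientGroup.out_eq' q, ← QuotientGroup.out_eq' r]
    exact (QuotientGroup.eq_iff_div_mem.2 h5).symm
  obtain ⟨g0, hg0, hgen⟩ := (hP.index x T (hT.1.trans inf_le_left) hT.2.1).2
  obtain ⟨q0, hq0⟩ := Finite.surjective_of_injective hψinj ((⟨g0, hg0⟩ : ↥T) : ↥T ⧸ R0.subgroupOf T)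
  set c : ↥T := ψ q0
  have hzp : ∀ q : ↥T ⧸ R0.subgroupOf T, q ∈ zpowers (c : ↥T ⧸ R0.subgroupOf T) := by
    intro q
    obtain ⟨t, rfl⟩ := QuotientGroup.mk_surjective q
    have hle : T ≤ ((zpowers (c : ↥T ⧸ R0.subgroupOf T)).comap (QuotientGroup.mk' _)).map T.subtype := by
      refine hgen.trans (sup_le (fun z hz => ?_) (zpowers_le.2 ?_))
      · refine ⟨⟨z, (mem_inf.1 hz).1⟩, ?_, rfl⟩
        rw [SetLike.mem_coe, mem_comap]
        show ((⟨z, (mem_inf.1 hz).1⟩ : ↥T) : ↥T ⧸ R0.subgroupOf T) ∈ _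
        rw [(QuotientGroup.eq_one_iff _).2 (show (⟨z, (mem_inf.1 hz).1⟩ : ↥T) ∈ R0.subgroupOf T from hz)]
        exact one_mem _
      · refine ⟨⟨g0, hg0⟩, ?_, rfl⟩
        rw [SetLike.mem_coe, mem_comap]
        show ((⟨g0, hg0⟩ : ↥T) : ↥T ⧸ R0.subgroupOf T) ∈ _
        rw [← hq0]
        exact mem_zpowers _
    obtain ⟨t', ht', e⟩ := hle t.2
    rw [← Subtype.ext (show (t' : G) = t from e)]
    exact ht'
  have hord : orderOf (c : ↥T ⧸ R0.subgroupOf T) = pPart n p := by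
    rw [orderOf_eq_card_of_forall_mem_zpowers hzp, ← hcardR0]
    rfl
  have hiff : ∀ j : ℕ, (c : G) ^ j ∈ R0 ↔ pPart n p ∣ j := fun j => by
    rw [← hord, orderOf_dvd_iff_pow_eq_one, ← QuotientGroup.mk_pow, QuotientGroup.eq_one_iff,
      mem_subgroupOf, Subgroup.coe_pow]
  have hcu : u * (c : G) * u = (c : G)⁻¹ := hψ q0
  refine ⟨c, hT.1 c.2, hcu, ?_, fun j => ?_, fun j => ?_⟩
  · refine Nat.dvd_antisymm (orderOf_dvd_of_pow_eq_one ?_) ?_
    · have h1 := (hiff _).2 dvd_rfl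
      set d := (c : G) ^ pPart n p with hd
      have h2 : u * d * u = d⁻¹ := by
        have h5 := conj_pow (i := pPart n p) (a := u) (b := (c : G))
        rw [hui] at h5
        rw [hd, ← h5, hcu, inv_pow]
      have h3 : u * d * u = d := by rw [← (hR0u d h1).eq, mul_assoc, huu, mul_one]
      refine TwoEl.eq_one_of_odd ⟨1, ?_⟩ (SECore.odd_orderOf_of_mem (hP.odd_card hT.2.1) (mem_inf.1 h1).1)
      rw [pow_one, pow_two]
      exact mul_eq_one_iff_eq_inv.2 (h3.symm.trans h2)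
    · rw [← hiff, pow_orderOf_eq_one]
      exact one_mem _
  · exact ⟨fun hj => (hiff j).1 (mem_inf.2 ⟨pow_mem c.2 j, hj⟩), fun hj => (mem_inf.1 ((hiff j).2 hj)).2⟩
  · refine ⟨fun hj => (hiff j).1 (hR0y ▸ mem_inf.2 ⟨pow_mem c.2 j, hj⟩), fun hj => ?_⟩
    have := (hiff j).2 hj
    rw [hR0y] at this
    exact (mem_inf.1 this).2

/-- The kernel of `y` meets the stabilizer of `x` inside the kernel of `x`. -/
theorem Par.U_le {x y : G ⧸ H} (hxy : x ≠ y) : Ux y ⊓ stabilizer G x ≤ Ux x := by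
  classical
  haveI := hP.fact
  have h := hP.hyp
  intro x0 hx0
  by_contra hx0U
  obtain ⟨hx0y, hx0x⟩ := mem_inf.1 hx0
  obtain ⟨u, hu, hux, huy⟩ := h.exists_swap hxy
  obtain ⟨c, hc, hcu, hcord, hcx, hcy⟩ := hP.exists_inverted IH hxy hu hux
  obtain ⟨hcx', hcy'⟩ := mem_inf.1 hc
  have huu := Basic.inv_sq_one hu
  have hui := Basic.inv_eq hu
  -- `p`-elements of `Ux y` fixing `x` lie in `Ux x`
  have hpel : ∀ e : G, e ∈ Ux y → e • x = x → ∀ k : ℕ, e ^ p ^ k ∈ Ux x → e ∈ Ux x := by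
    intro e he hex k hk
    refine mem_of_pow_mem hP.prime hk fun a ha haj => ?_
    obtain ⟨j, hj⟩ := haj
    have hay : a ∈ Ux y := zpowers_le.2 he ha
    have hax : a ∈ stabilizer G x := zpowers_le.2 (mem_stabilizer_iff.2 hex) ha
    refine hP.le_U_symm IH hxy.symm (R := zpowers a) ?_ (zpowers_le.2 (Ux_le y hay)) (zpowers_le.2 hax)
      (zpowers_le.2 hay) (mem_zpowers a)
    intro b
    obtain ⟨i, hi⟩ := mem_zpowers_iff.1 b.2
    refine ⟨j, Subtype.ext ?_⟩
    rw [Subgroup.coe_pow, ← hi, ← zpow_natCast (a ^ i), zpow_comm, zpow_natCast, hj, one_zpow]; rfl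
  -- an element of prime order modulo the kernel of `x`
  obtain ⟨x1, r, hr, hx1y, hx1x, hx1U, hx1r⟩ : ∃ x1 : G, ∃ r : ℕ, r.Prime ∧ x1 ∈ Ux y ∧ x1 • x = x ∧
      x1 ∉ Ux x ∧ x1 ^ r ∈ Ux x := by
    have hex : ∃ m : ℕ, 0 < m ∧ x0 ^ m ∈ Ux x :=
      ⟨orderOf x0, orderOf_pos x0, by rw [pow_orderOf_eq_one]; exact one_mem _⟩
    obtain ⟨hm0, hm⟩ := Nat.find_spec hex
    have hm1 : Nat.find hex ≠ 1 := fun e => hx0U (by rw [e, pow_one] at hm; exact hm)
    obtain ⟨r, hr, hrm⟩ := Nat.exists_prime_and_dvd hm1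
    refine ⟨x0 ^ (Nat.find hex / r), r, hr, pow_mem hx0y _,
      mem_stabilizer_iff.1 (pow_mem hx0x _), fun e => ?_, ?_⟩
    · exact Nat.find_min hex (Nat.div_lt_self hm0 hr.one_lt)
        ⟨Nat.div_pos (Nat.le_of_dvd hm0 hrm) hr.pos, e⟩
    · rw [← pow_mul, Nat.div_mul_cancel hrm]; exact hm
  -- modulo the intersection `N` of the two kernels
  set N := Ux x ⊓ Ux y with hNdef
  have hNu : ∀ e ∈ N, Commute e u := fun e he => h.commute_swap hxy hu hux (mem_inf.1 he).1 (mem_inf.1 he).2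
  have hNc : ∀ e ∈ N, Commute e c := fun e he => by
    have hv : orderOf (c * u) = 2 := by
      rw [Basic.orderOf_two_iff]
      refine ⟨by rw [show c * u * (c * u) = c * (u * c * u) by group, hcu, mul_inv_cancel], fun e1 => ?_⟩
      have h1 : (c * u) • x = y := by rw [mul_smul, hux, mem_stabilizer_iff.1 hcy']
      rw [e1, one_smul] at h1
      exact hxy h1
    have h1 := h.commute_swap hxy hv (by rw [mul_smul, hux, mem_stabilizer_iff.1 hcy'])
      (mem_inf.1 he).1 (mem_inf.1 he).2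
    have h3 := h1.mul_right (hNu e he)
    rwa [show c * u * u = c * (u * u) by group, huu, mul_one] at h3
  set x2 := u * x1 * u with hx2
  have hx2x : x2 ∈ Ux x := by
    have := Ux_conj (g := u) hx1y
    rwa [huy, hui] at this
  have hx2y : x2 • y = y := by
    rw [hx2, mul_smul, mul_smul, huy, hx1x, hux]
  have hx1D : x1 ∈ Dp x y := mem_inf.2 ⟨hx1x, Ux_le y hx1y⟩
  have hx2D : x2 ∈ Dp x y := mem_inf.2 ⟨Ux_le x hx2x, hx2y⟩
  have hDx : ∀ d ∈ Dp x y, ∀ e ∈ Ux x, d * e * d⁻¹ ∈ Ux x := fun d hd e he =>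
    Ux_normal (mem_inf.1 hd).1 he
  have hDy : ∀ d ∈ Dp x y, ∀ e ∈ Ux y, d * e * d⁻¹ ∈ Ux y := fun d hd e he =>
    Ux_normal (mem_inf.1 hd).2 he
  have hcomm12 : x1⁻¹ * x2⁻¹ * x1 * x2 ∈ N := by
    refine mem_inf.2 ⟨?_, ?_⟩
    · have := hDx _ (inv_mem hx1D) _ (inv_mem hx2x)
      rw [inv_inv] at this
      exact mul_mem this hx2x
    · have := hDy _ (inv_mem hx2D) _ hx1y
      rw [inv_inv] at this
      rw [show x1⁻¹ * x2⁻¹ * x1 * x2 = x1⁻¹ * (x2⁻¹ * x1 * x2) by group]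
      exact mul_mem (inv_mem hx1y) this
  set y1 := x1 * x2 with hy1
  have hy1D : y1 ∈ Dp x y := mul_mem hx1D hx2D
  have hy1u : Commute y1 u := by
    set i := y1⁻¹ * (u * y1 * u) with hidef
    have e1 : u * y1 * u = x2 * x1 := by
      rw [hy1, hx2]
      calc u * (x1 * (u * x1 * u)) * u = u * x1 * u * x1 * (u * u) := by group
        _ = _ := by rw [huu, mul_one]
    have hiN : i ∈ N := by
      rw [hidef, e1, hy1, show (x1 * x2)⁻¹ * (x2 * x1) = (x1⁻¹ * x2⁻¹ * x1 * x2)⁻¹ by group]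
      exact inv_mem hcomm12
    have h2 : u * i * u = i⁻¹ := by
      rw [hidef]
      calc u * (y1⁻¹ * (u * y1 * u)) * u = u * y1⁻¹ * u * y1 * (u * u) := by group
        _ = (u * y1 * u)⁻¹ * y1 := by rw [huu, mul_one, invol_conj_inv huu]
        _ = _ := by group
    have h3 : u * i * u = i := by rw [← (hNu i hiN).eq, mul_assoc, huu, mul_one]
    have h4 : i = 1 := by
      refine TwoEl.eq_one_of_odd ⟨1, ?_⟩ (SECore.odd_orderOf_of_mem (h.odd_D hxy)
        (mem_inf.2 ⟨Ux_le x (mem_inf.1 hiN).1, Ux_le y (mem_inf.1 hiN).2⟩))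
      rw [pow_one, pow_two]
      exact mul_eq_one_iff_eq_inv.2 (h3.symm.trans h2)
    rw [hidef, inv_mul_eq_one] at h4
    show y1 * u = u * y1
    calc y1 * u = u * y1 * u * u := by rw [← h4]
      _ = u * y1 := by rw [mul_assoc, huu, mul_one]
  have hy1U : y1 ∉ Ux x := fun e => hx1U ((mul_mem_cancel_right hx2x).1 e)
  have hy1r : ∀ j : ℕ, ∃ e ∈ Ux x, y1 ^ j = x1 ^ j * e := by
    intro j
    induction j with
    | zero => exact ⟨1, one_mem _, by simp⟩
    | succ j ih =>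
      obtain ⟨e, he, hje⟩ := ih
      refine ⟨x1⁻¹ * e * x1 * x2, mul_mem ?_ hx2x, by rw [pow_succ, hje, hy1, pow_succ]; group⟩
      have := hDx _ (inv_mem hx1D) e he
      rwa [inv_inv] at this
  have hy1rU : y1 ^ r ∈ Ux x := by
    obtain ⟨e, he, hje⟩ := hy1r r
    rw [hje]
    exact mul_mem hx1r he
  -- `c` commutes with `y1`
  have hcom : ∀ a b : G, a ∈ Ux y → a ∈ Dp x y → b ∈ Dp x y → b ^ pPart n p = 1 →
      a * b * a⁻¹ * b⁻¹ ∈ N := by
    intro a b ha haD hbD hbp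
    have h1 : a * b * a⁻¹ * b⁻¹ ∈ Ux y := by
      rw [show a * b * a⁻¹ * b⁻¹ = a * (b * a⁻¹ * b⁻¹) by group]
      exact mul_mem ha (hDy b hbD _ (inv_mem ha))
    have h2 : a * b * a⁻¹ * b⁻¹ ∈ Dp x y := mul_mem (mul_mem (mul_mem haD hbD) (inv_mem haD)) (inv_mem hbD)
    obtain ⟨k, hk⟩ := hP.comm x a b (mem_inf.1 haD).1 (mem_inf.1 hbD).1
      ⟨(2 ^ n - 1).factorization p, (show b ^ p ^ (2 ^ n - 1).factorization p = 1 from hbp) ▸ one_mem _⟩
    exact mem_inf.2 ⟨hpel _ h1 (mem_inf.1 h2).1 k hk, h1⟩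
  have hcy1 : Commute c y1 := by
    have h1 := hcom x1 c hx1y hx1D hc (by rw [← hcord, pow_orderOf_eq_one])
    have h2 := hcom x1 c⁻¹ hx1y hx1D (inv_mem hc) (by rw [inv_pow, ← hcord, pow_orderOf_eq_one, inv_one])
    set a1 := x1 * c * x1⁻¹ * c⁻¹
    set a2 := x1 * c⁻¹ * x1⁻¹ * c⁻¹⁻¹
    have hcu' : u * c⁻¹ * u = c := by
      have := congrArg (·⁻¹) hcu
      simpa [mul_inv_rev, hui, mul_assoc] using this
    have e2 : x2 * c * x2⁻¹ * c⁻¹ = u * a2 * u := by
      calc x2 * c * x2⁻¹ * c⁻¹ = (u * x1 * u) * (u * c⁻¹ * u) * (u * x1 * u)⁻¹ * (u * c⁻¹ * u)⁻¹ := by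
            rw [hcu', hx2]
        _ = u * a2 * u := by simp only [a2]; rw [invol_conj_mul huu, invol_conj_mul huu, invol_conj_mul huu,
              invol_conj_inv huu, invol_conj_inv huu, inv_inv, inv_inv]
    have ha2' : u * a2 * u = a2 := by rw [← (hNu a2 h2).eq, mul_assoc, huu, mul_one]
    rw [ha2'] at e2
    set e := y1 * c * y1⁻¹ * c⁻¹ with hedef
    have heN : e ∈ N := by
      have e3 : e = x1 * a2 * x1⁻¹ * a1 := by
        rw [hedef, ← e2, hy1]
        simp only [a1]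
        group
      rw [e3]
      refine mul_mem (mem_inf.2 ⟨hDx x1 hx1D _ (mem_inf.1 h2).1, hDy x1 hx1D _ (mem_inf.1 h2).2⟩) h1
    have h3 : e⁻¹ = e := by
      have h5 : u * e * u = e := by rw [← (hNu e heN).eq, mul_assoc, huu, mul_one]
      have h6 : u * e * u = y1 * c⁻¹ * y1⁻¹ * c := by
        have hy : u * y1 * u = y1 := by rw [← hy1u.eq, mul_assoc, huu, mul_one]
        calc u * e * u = (u * y1 * u) * (u * c * u) * (u * y1 * u)⁻¹ * (u * c * u)⁻¹ := by
              rw [hedef, invol_conj_mul huu, invol_conj_mul huu, invol_conj_mul huu, invol_conj_inv huu,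
                invol_conj_inv huu]
          _ = _ := by rw [hy, hcu, inv_inv]
      rw [h5] at h6
      calc e⁻¹ = c⁻¹ * (c * e⁻¹) := by group
        _ = c⁻¹ * (e⁻¹ * c) := by rw [((hNc e heN).inv_left).eq]
        _ = c⁻¹ * (c * y1 * c⁻¹ * y1⁻¹) * c := by rw [hedef]; group
        _ = y1 * c⁻¹ * y1⁻¹ * c := by group
        _ = e := h6.symm
    have h4 : e = 1 := TwoEl.eq_one_of_odd ⟨1, by
      rw [pow_one, pow_two]; exact mul_eq_one_iff_eq_inv.2 h3.symm⟩
      (SECore.odd_orderOf_of_mem (h.odd_D hxy)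
        (mem_inf.2 ⟨Ux_le x (mem_inf.1 heN).1, Ux_le y (mem_inf.1 heN).2⟩))
    show c * y1 = y1 * c
    calc c * y1 = e * (c * y1) := by rw [h4, one_mul]
      _ = y1 * c := by rw [hedef]; group
  -- the part of order a power of `r`
  set o := orderOf y1
  set jr := o.factorization r
  set m := o / r ^ jr
  have ho : r ^ jr * m = o := Nat.mul_div_cancel' (Nat.ordProj_dvd o r)
  set y2 := y1 ^ m with hy2
  have hy2one : y2 ^ r ^ jr = 1 := by rw [hy2, ← pow_mul, mul_comm, ho, pow_orderOf_eq_one]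
  have hy2U : y2 ∉ Ux x := by
    intro e
    have hco : Nat.Coprime r m := hr.coprime_iff_not_dvd.2 (Nat.not_dvd_ordCompl hr (orderOf_pos y1).ne')
    have h2 := Nat.gcd_eq_gcd_ab r m
    rw [Nat.Coprime.gcd_eq_one hco] at h2
    have h3 : y1 = (y1 ^ r) ^ (r.gcdA m) * (y1 ^ m) ^ (r.gcdB m) := by
      rw [← zpow_natCast y1, ← zpow_natCast y1, ← zpow_mul, ← zpow_mul, ← zpow_add]
      conv_lhs => rw [← zpow_one y1]
      exact congrArg (y1 ^ ·) (by exact_mod_cast h2)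
    exact hy1U (h3 ▸ mul_mem (zpow_mem hy1rU _) (zpow_mem e _))
  have hy2c : Commute c y2 := hcy1.pow_right m
  have hy2u : Commute y2 u := hy1u.pow_left m
  have hy2D : y2 ∈ Dp x y := pow_mem hy1D m
  obtain ⟨hy2x, hy2y⟩ := mem_inf.1 hy2D
  have hcomm1 : y2 * c * y2⁻¹ * c⁻¹ = 1 := by rw [← hy2c.eq]; group
  have hy2Uy : y2 ∉ Ux y := by
    intro e
    have := Ux_conj (g := u) e
    rw [huy, hy2u.symm.eq, mul_inv_cancel_right] at this
    exact hy2U this
  have hfx := hP.fpf_cent x y2 c hy2x hcx' hcx (hcomm1 ▸ one_mem _) hy2U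
  have hfy := hP.fpf_cent y y2 c hy2y hcy' hcy (hcomm1 ▸ one_mem _) hy2Uy
  -- `r` divides `2 ^ n - 1`
  haveI := Fact.mk hr
  have hrdvd : 2 ^ n ≡ 1 [MOD r] := by
    letI : MulAction ↥(zpowers y2) ↥(Wx x) :=
      MulAction.compHom _ ((actW x).comp (inclusion (zpowers_le.2 hy2x)))
    have hzp : IsPGroup r ↥(zpowers y2) := by
      intro b
      obtain ⟨i, hi⟩ := mem_zpowers_iff.1 b.2
      refine ⟨jr, Subtype.ext ?_⟩
      rw [Subgroup.coe_pow, ← hi, ← zpow_natCast (y2 ^ i), zpow_comm, zpow_natCast, hy2one, one_zpow]; rfl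
    have h1 := hzp.card_modEq_card_fixedPoints ↥(Wx x)
    have h2 : fixedPoints ↥(zpowers y2) ↥(Wx x) = {1} := by
      ext w
      rw [Set.mem_singleton_iff, mem_fixedPoints]
      refine ⟨fun hw => Subtype.ext (hfx w w.2 ?_), fun hw g => hw ▸ map_one (actW x _)⟩
      have h3 : y2 * (w : G) * y2⁻¹ = w := congrArg Subtype.val (hw ⟨y2, mem_zpowers _⟩)
      exact mul_inv_eq_iff_eq_mul.1 h3
    rwa [h2, hP.card_W x, Nat.card_coe_set_eq, Set.ncard_singleton] at h1
  have hr2 : r ≠ 2 := by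
    rintro rfl
    have h1 : 2 ^ n % 2 = 0 := Nat.mod_eq_zero_of_dvd (dvd_pow_self 2 (by have := hP.two_le; omega))
    have h2 : 2 ^ n % 2 = 1 % 2 := hrdvd
    omega
  -- the centralizer of `y2`
  obtain ⟨f, huf⟩ := h.exists_fixed (H := H) hu
  have huW : u ∈ Wx f := h.mem_Wx.2 ⟨huf, huu⟩
  have hy2f : y2 • f = f := h.smul_of_commute huW (Basic.ne_one hu) hy2u
  obtain ⟨k, i, hk, hn⟩ := hP.fixed f y2 r jr hy2f hr (hy2one ▸ one_mem _)
    ⟨u, huW, Basic.ne_one hu, hy2u⟩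
  set X := centralizer ({y2} : Set G) with hXdef
  have hmemX : ∀ g : G, g ∈ X ↔ Commute g y2 := fun g => mem_centralizer_singleton_iff
  have hpow1 : ∀ j : ℕ, 2 ^ r ^ j ≡ 2 [MOD r] := by
    intro j
    induction j with
    | zero => simpa using Nat.ModEq.refl 2
    | succ j ih =>
      rw [pow_succ, pow_mul]
      refine (ih.pow r).trans ?_
      have := (ZMod.natCast_eq_natCast_iff (2 ^ r) 2 r).1 (by push_cast; exact ZMod.pow_card _)
      exact this
  have hk2 : 2 ≤ k := by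
    rcases Nat.lt_or_ge k 2 with hlt | hge
    · exfalso
      interval_cases k
      · simp at hn; have := hP.two_le; omega
      · rw [one_mul] at hn
        rw [hn] at hrdvd
        have h3 : 2 % r = 1 % r := ((hpow1 i).symm.trans hrdvd)
        have := hr.two_le
        rw [Nat.one_mod_eq_one.2 hr.ne_one, Nat.mod_eq_of_lt (by omega)] at h3
        omega
    · exact hge
  obtain ⟨w, hwX, hwu1, hwu⟩ : ∃ w ∈ X ⊓ Wx f, w ≠ 1 ∧ w ≠ u := by
    by_contra hcon
    push Not at hcon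
    have hsub : ((X ⊓ Wx f : Subgroup G) : Set G) ⊆ {1, u} := by
      intro w hw
      by_cases h1 : w = 1
      exacts [Or.inl h1, Or.inr (hcon w hw h1)]
    have h2 := Set.ncard_le_ncard hsub (Set.toFinite _)
    rw [← Nat.card_coe_set_eq] at h2
    have h3 : Nat.card ↥(X ⊓ Wx f) ≤ 2 := h2.trans ((Set.ncard_insert_le _ _).trans (by simp))
    rw [hk] at h3
    have := Nat.pow_le_pow_right (show 1 ≤ 2 by norm_num) hk2
    omega
  have hXne : X ≠ ⊤ := by
    intro e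
    refine hy2U ?_
    have h1 : y2 = 1 := FaithfulSMul.eq_of_smul_eq_smul (α := G ⧸ H) fun z => by
      obtain ⟨g, rfl⟩ := MulAction.exists_smul_eq G x z
      rw [one_smul, ← mul_smul, ← ((hmemX g).1 (e ▸ mem_top g)).eq, mul_smul,
        mem_stabilizer_iff.1 hy2x]
    rw [h1]
    exact one_mem _
  have hcf : c • f ≠ f := by
    intro e
    have h1 : c * u * c⁻¹ * u⁻¹ ∈ Wx f := mul_mem (Wx_normal e huW) (inv_mem huW)
    have h2 : c * u * c⁻¹ * u⁻¹ = c * c := by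
      rw [hui]
      calc c * u * c⁻¹ * u = c * (u * c⁻¹ * u) := by group
        _ = c * c := by
          rw [show u * c⁻¹ * u = c by
            have := congrArg (·⁻¹) hcu
            simpa [mul_inv_rev, hui, mul_assoc] using this]
    rw [h2] at h1
    have h3 : c * c = 1 := (h.mem_Sx.1 (Wx_le_Sx f h1)).2.eq_one_of_odd
      (SECore.odd_orderOf_of_mem (h.odd_D hxy) (mul_mem hc hc))
    have h4 : c = 1 := TwoEl.eq_one_of_odd ⟨1, by rw [pow_one, pow_two, h3]⟩
      (SECore.odd_orderOf_of_mem (h.odd_D hxy) hc)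
    rw [h4, orderOf_one] at hcord
    have := hP.one_lt_pPart
    omega
  obtain ⟨hwX', hwW⟩ := mem_inf.1 hwX
  have hS := h.slice IH hXne ⟨c, (hmemX c).2 hy2c, hcf⟩ ((hmemX u).2 hy2u.symm) hwX' huW hwW
    (Basic.ne_one hu) hwu1 (Ne.symm hwu)
  obtain ⟨i', -, -, hi'⟩ := hS.card
  -- `c` fixes a point of the orbit
  have hcp : IsPGroup p ↥(zpowers c) := by
    refine IsPGroup.of_card (n := (2 ^ n - 1).factorization p) ?_
    rw [Nat.card_zpowers, hcord, pPart]
  have hcX : zpowers c ≤ X := zpowers_le.2 ((hmemX c).2 hy2c)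
  obtain ⟨d, hd, hdc⟩ : ∃ d ∈ orbit ↥X f, c • d = d := by
    by_contra hcon
    have h1 := ncard_fixed_modEq hcp (S := orbit ↥X f) fun g hg z hz => smul_mem_orbit (hcX hg) hz
    rw [show {z ∈ orbit ↥X f | ∀ g ∈ zpowers c, g • z = z} = ∅ from
      Set.eq_empty_of_forall_notMem fun z hz => hcon ⟨z, hz.1, hz.2 c (mem_zpowers c)⟩, Set.ncard_empty,
      hS.orbit_card, hi', inf_comm (Wx f), hk, ← pow_mul] at h1
    have h2 : ((2 : ZMod p) ^ (k * i') + 1 = 0) := by
      have := (ZMod.natCast_eq_natCast_iff _ _ p).2 h1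
      simpa using this
    have h3 : (2 : ZMod p) ^ n = 1 := by
      have h4 : 2 ^ n ≡ 1 [MOD p] := ((Nat.modEq_iff_dvd' Nat.one_le_two_pow).2 hP.dvd).symm
      simpa using (ZMod.natCast_eq_natCast_iff _ _ p).2 h4
    have hodd : Odd (r ^ i) := (hr.odd_of_ne_two hr2).pow
    have h5 : ((2 : ZMod p) ^ (k * i')) ^ (r ^ i) = 1 := by
      rw [← pow_mul, show k * i' * r ^ i = n * i' by rw [hn]; ring, pow_mul, h3, one_pow]
    rw [eq_neg_of_add_eq_zero_left h2, hodd.neg_one_pow] at h5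
    haveI : Fact (2 < p) := ⟨by have := hP.prime.two_le; have := hP.p_ne_two; omega⟩
    exact ZMod.neg_one_ne_one h5
  have hnU : ¬ zpowers c ≤ Ux x := fun hle => by
    have h1 := (hcx 1).1 (by rw [pow_one]; exact hle (mem_zpowers c))
    have := hP.one_lt_pPart
    have := Nat.le_of_dvd one_pos h1
    omega
  have hdxy := hP.fix_two IH hxy hcp (zpowers_le.2 hcx') (zpowers_le.2 hcy') (zpowers_le.2 hdc) hnU
  -- so `y2` centralizes an involution fixing `x` or `y`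
  obtain ⟨g, rfl⟩ := hd
  have hg := (hmemX _).1 g.2
  have hw1 : (g : G) * u * (g : G)⁻¹ ∈ Wx ((g : G) • f) := Wx_conj huW
  have hw2 : Commute y2 ((g : G) * u * (g : G)⁻¹) :=
    (hg.symm.mul_right hy2u).mul_right hg.symm.inv_right
  have hne : (g : G) * u * (g : G)⁻¹ ≠ 1 := fun e => Basic.ne_one hu (conj_eq_one_iff.1 e)
  rcases hdxy with e | e
  · exact hne (hfx _ (e ▸ hw1) hw2)
  · exact hne (hfy _ (e ▸ hw1) hw2)

end Cfsg.Agent.SETwoClosed

namespace Cfsg.Agent.SETwoClosed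

open Subgroup MulAction

universe u

/-- The facts about pairs of points hold. -/
theorem Hyp.exists_facts {G : Type u} [Group G] [Finite G] {H : Subgroup G} [FaithfulSMul G (G ⧸ H)]
    (h : Hyp H) (IH : IndHyp G) : ∃ n p : ℕ, Facts H n p := by
  obtain ⟨n, p, hP⟩ := h.exists_par
  haveI := hP.fact
  refine ⟨n, p, hP, (hP.two_facts IH).1,
    fun x y T Q hxy hT hQ => hP.max_sylow hxy hT (hP.syl_max IH hxy hT) hQ,
    fun x y z T hxy hT hz => hP.syl_fix IH hxy hT hz,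
    fun x y z R hxy hR hx hy hz hU => hP.fix_two IH hxy hR hx hy hz hU,
    fun x y hxy => le_antisymm ?_ ?_, fun x y u e hxy hu hux he hey => ?_, fun x y u hxy hu hux => ?_⟩
  · intro e he
    exact mem_inf.2 ⟨hP.U_le IH hxy.symm he, Ux_le x (mem_inf.1 he).1⟩
  · intro e he
    exact mem_inf.2 ⟨hP.U_le IH hxy he, Ux_le y (mem_inf.1 he).1⟩
  · exact h.commute_swap hxy hu hux he (hP.U_le IH hxy.symm (mem_inf.2 ⟨he, hey⟩))
  · obtain ⟨c, hc, hcu, hcord, hcx, -⟩ := hP.exists_inverted IH hxy hu hux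
    exact ⟨c, hc, hcu, hcord, hcx⟩

end Cfsg.Agent.SETwoClosed
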