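import Mathlib
import Cfsg.Agent.Lib.SETwoClosed.Ind

/-!
# Strongly embedded subgroups with a normal Sylow 2-subgroup: passing to the faithful case

The theorem for all finite groups follows from the faithful step with the induction hypothesis.
-/

set_option autoImplicit false
set_option linter.style.haveILetI false
set_option linter.unusedSectionVars false

namespace Cfsg.Agent.SETwoClosed

open Subgroup MulAction
open Cfsg.Agent.Involutions

universe u

section Quotient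

variable {G : Type u} [Group G] [Finite G] {H : Subgroup G}

/-- The normal core of a strongly embedded subgroup has odd order. -/
theorem Hyp.odd_normalCore (h : Hyp H) : Odd (Nat.card ↥H.normalCore) := by
  by_contra hev
  rw [Nat.not_odd_iff_even] at hev
  obtain ⟨t, ht, ht2⟩ := StronglyEmbedded.exists_involution_mem hev
  obtain ⟨u, hu, -⟩ := StronglyEmbedded.exists_involution_notMem h.se
  exact hu (StronglyEmbedded.mem_of_conj h.se (normalCore_le H ht) ht2
    (normalCore_le H ((normalCore_normal H).conj_mem t ht u)))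

variable {N : Subgroup G} [N.Normal] (hNH : N ≤ H)
include hNH

theorem mk_mem_map {g : G} : (g : G ⧸ N) ∈ H.map (QuotientGroup.mk' N) ↔ g ∈ H := by
  refine ⟨?_, fun hg => ⟨g, hg, rfl⟩⟩
  rintro ⟨x, hx, e⟩
  have h1 : x⁻¹ * g ∈ N := QuotientGroup.eq.1 e
  have h2 := mul_mem hx (hNH h1)
  rwa [mul_inv_cancel_left] at h2

/-- A 2-element of the image lifts to a 2-element. -/
theorem exists_lift (hN : Odd (Nat.card ↥N)) {a : G ⧸ N} (ha : a ∈ H.map (QuotientGroup.mk' N))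
    (ha2 : TwoEl a) : ∃ x ∈ H, TwoEl x ∧ (x : G ⧸ N) = a ∧ (a * a = 1 → x * x = 1) := by
  obtain ⟨x, hx, rfl⟩ := ha
  obtain ⟨e, m, hm, hxm⟩ := Nat.exists_eq_two_pow_mul_odd (orderOf_pos x).ne'
  obtain ⟨k, hk⟩ := ha2
  have hco : m.Coprime (orderOf (x : G ⧸ N)) :=
    Nat.Coprime.coprime_dvd_right (orderOf_dvd_of_pow_eq_one hk)
      (Nat.Coprime.pow_right k (Nat.coprime_two_right.2 hm))
  obtain ⟨j, hj⟩ := exists_pow_eq_self_of_coprime hco
  have h2el : TwoEl ((x ^ m) ^ j) := ⟨e, by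
    rw [← pow_mul, ← pow_mul, show m * (j * 2 ^ e) = (2 ^ e * m) * j by ring, ← hxm, pow_mul,
      pow_orderOf_eq_one, one_pow]⟩
  have hmk : (((x ^ m) ^ j : G) : G ⧸ N) = (x : G ⧸ N) := by
    rw [QuotientGroup.mk_pow, QuotientGroup.mk_pow, hj]
  refine ⟨(x ^ m) ^ j, pow_mem (pow_mem hx m) j, h2el, hmk, fun hsq => ?_⟩
  set y := (x ^ m) ^ j
  have hyN : y * y ∈ N := (QuotientGroup.eq_one_iff _).1 (by rw [QuotientGroup.mk_mul, hmk]; exact hsq)
  obtain ⟨i, hi⟩ := h2el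
  refine TwoEl.eq_one_of_odd ⟨i, by rw [← pow_two, ← pow_mul, mul_comm, pow_mul, hi, one_pow]⟩ ?_
  exact hN.of_dvd_nat (orderOf_coe (⟨y * y, hyN⟩ : ↥N) ▸ orderOf_dvd_natCard _)

theorem Hyp.quot (h : Hyp H) (hN : Odd (Nat.card ↥N)) : Hyp (H.map (QuotientGroup.mk' N)) := by
  have hne : ∀ x : G, TwoEl x → x ∈ N → x = 1 := fun x hx hxN =>
    hx.eq_one_of_odd (hN.of_dvd_nat (orderOf_coe (⟨x, hxN⟩ : ↥N) ▸ orderOf_dvd_natCard _))
  obtain ⟨a, ha, b, hb, ha2, hb2, hab, hc⟩ := h.four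
  have hord : ∀ x : G, orderOf x = 2 → orderOf (x : G ⧸ N) = 2 := fun x hx => by
    rw [Basic.orderOf_two_iff]
    refine ⟨by rw [← QuotientGroup.mk_mul, Basic.inv_sq_one hx, QuotientGroup.mk_one], fun e => ?_⟩
    exact Basic.ne_one hx (hne x (twoEl_of_sq (Basic.inv_sq_one hx)) ((QuotientGroup.eq_one_iff x).1 e))
  refine ⟨StronglyEmbedded.of_conj (fun e => h.se.1 (eq_top_iff.2 fun g _ =>
    (mk_mem_map hNH).1 (e ▸ mem_top (g : G ⧸ N)))) ?_ ?_, fun x hx y hy hx2 hy2 => ?_, ?_⟩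
  · rw [even_iff_two_dvd, ← hord a ha2]
    exact orderOf_coe (⟨(a : G ⧸ N), (mk_mem_map hNH).2 ha⟩ : ↥(H.map (QuotientGroup.mk' N))) ▸
      orderOf_dvd_natCard _
  · intro t ht ht2 g hg
    obtain ⟨x, hx, -, rfl, hxsq⟩ := exists_lift hNH hN ht (twoEl_of_sq (Basic.inv_sq_one ht2))
    obtain ⟨g, rfl⟩ := QuotientGroup.mk_surjective g
    refine (mk_mem_map hNH).2 (StronglyEmbedded.mem_of_conj h.se hx ?_ ((mk_mem_map hNH).1 hg))
    exact Basic.orderOf_two_iff.2 ⟨hxsq (Basic.inv_sq_one ht2), fun e => Basic.ne_one ht2 (by rw [e]; rfl)⟩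
  · obtain ⟨x', hx', hx'2, rfl, -⟩ := exists_lift hNH hN hx hx2
    obtain ⟨y', hy', hy'2, rfl, -⟩ := exists_lift hNH hN hy hy2
    obtain ⟨k, hk⟩ := h.closed x' hx' y' hy' hx'2 hy'2
    exact ⟨k, by rw [← QuotientGroup.mk_mul, ← QuotientGroup.mk_pow, hk, QuotientGroup.mk_one]⟩
  · refine ⟨a, (mk_mem_map hNH).2 ha, b, (mk_mem_map hNH).2 hb, hord a ha2, hord b hb2, fun e => hab ?_, ?_⟩
    · have h1 : a * b ∈ N := by
        have := QuotientGroup.eq.1 e
        rwa [Basic.inv_eq ha2] at this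
      have h2 : a * b = 1 := hne _ (twoEl_of_sq (by
        rw [show a * b * (a * b) = a * (b * a) * b by group, ← hc.eq,
          show a * (a * b) * b = (a * a) * (b * b) by group, Basic.inv_sq_one ha2, Basic.inv_sq_one hb2,
          one_mul])) h1
      rw [← Basic.inv_eq hb2]
      exact eq_inv_of_mul_eq_one_left h2
    · show (a : G ⧸ N) * b = b * a
      rw [← QuotientGroup.mk_mul, hc.eq, QuotientGroup.mk_mul]

theorem Concl.of_quot (h : Hyp H) (hN : Odd (Nat.card ↥N))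
    (hC : Concl (H.map (QuotientGroup.mk' N))) : Concl H := by
  have h' := h.quot hNH hN
  set π := QuotientGroup.mk' N
  have hinj : ∀ s ∈ Sx (base H), ∀ t ∈ Sx (base H), π s = π t → s = t := fun s hs t ht e => by
    have h1 : s⁻¹ * t ∈ N := QuotientGroup.eq.1 e
    have h2 := (h.mem_Sx.1 (mul_mem (inv_mem hs) ht)).2.eq_one_of_odd
      (hN.of_dvd_nat (orderOf_coe (⟨_, h1⟩ : ↥N) ▸ orderOf_dvd_natCard _))
    exact inv_mul_eq_one.1 h2
  have hS : (Sx (base H)).map π = Sx (base (H.map π)) := by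
    ext a
    constructor
    · rintro ⟨s, hs, rfl⟩
      obtain ⟨hs1, k, hk⟩ := h.mem_Sx.1 hs
      exact h'.mem_Sx.2 ⟨smul_base_iff.2 ⟨s, smul_base_iff.1 hs1, rfl⟩, k,
        by rw [← map_pow, hk, map_one]⟩
    · intro ha
      obtain ⟨ha1, ha2⟩ := h'.mem_Sx.1 ha
      obtain ⟨x, hx, hx2, rfl, -⟩ := exists_lift hNH hN (smul_base_iff.1 ha1) ha2
      exact ⟨x, h.mem_Sx.2 ⟨smul_base_iff.2 hx, hx2⟩, rfl⟩
  have hW : (Wx (base H)).map π = Wx (base (H.map π)) := by
    ext a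
    constructor
    · rintro ⟨s, hs, rfl⟩
      obtain ⟨hs1, hs2⟩ := h.mem_Wx.1 hs
      exact h'.mem_Wx.2 ⟨smul_base_iff.2 ⟨s, smul_base_iff.1 hs1, rfl⟩, by rw [← map_mul, hs2, map_one]⟩
    · intro ha
      obtain ⟨ha1, ha2⟩ := h'.mem_Wx.1 ha
      obtain ⟨x, hx, -, rfl, hx2⟩ := exists_lift hNH hN (smul_base_iff.1 ha1) (twoEl_of_sq ha2)
      exact ⟨x, h.mem_Wx.2 ⟨smul_base_iff.2 hx, hx2 ha2⟩, rfl⟩
  have hcard : ∀ K : Subgroup G, K ≤ Sx (base H) → Nat.card ↥(K.map π) = Nat.card ↥K := fun K hK =>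
    (Nat.card_eq_of_bijective (fun k : ↥K => (⟨π k, mem_map_of_mem π k.2⟩ : ↥(K.map π)))
      ⟨fun k l e => Subtype.ext (hinj k (hK k.2) l (hK l.2) (congrArg Subtype.val e)),
        by rintro ⟨_, k, hk, rfl⟩; exact ⟨⟨k, hk⟩, rfl⟩⟩).symm
  refine ⟨fun y z hy hz => ?_, ?_⟩
  · obtain ⟨g, rfl⟩ := exists_smul_base y
    obtain ⟨k, rfl⟩ := exists_smul_base z
    have hne : ∀ x : G, x • base H ≠ base H → π x • base (H.map π) ≠ base (H.map π) := fun x hx e =>
      hx (smul_base_iff.2 ((mk_mem_map hNH).1 (smul_base_iff.1 e)))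
    obtain ⟨s', hs', hsy⟩ := hC.trans _ _ (hne g hy) (hne k hz)
    obtain ⟨s, hs, rfl⟩ := hS.symm ▸ hs'
    refine ⟨s, hs, ?_⟩
    have h1 : π (k⁻¹ * s * g) • base (H.map π) = base (H.map π) := by
      rw [map_mul, map_mul, map_inv, mul_smul, mul_smul, hsy, inv_smul_smul]
    have h2 : (k⁻¹ * s * g) • base H = base H :=
      smul_base_iff.2 ((mk_mem_map hNH).1 (smul_base_iff.1 h1))
    rwa [mul_smul, mul_smul, inv_smul_eq_iff] at h2
  · obtain ⟨i, hi1, hi3, hi⟩ := hC.card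
    refine ⟨i, hi1, hi3, ?_⟩
    rwa [← hS, ← hW, hcard _ le_rfl, hcard _ (Wx_le_Sx _)] at hi

end Quotient

/-- The theorem follows from its faithful step. -/
theorem concl_of_step
    (step : ∀ {G : Type u} [Group G] [Finite G] (H : Subgroup G) [FaithfulSMul G (G ⧸ H)],
      Hyp H → IndHyp G → Concl H)
    {G : Type u} [Group G] [Finite G] {H : Subgroup G} (h : Hyp H) : Concl H := by
  suffices key : ∀ (N : ℕ) (G : Type u) [Group G] [Finite G] (H : Subgroup G),
      Nat.card G = N → Hyp H → Concl H from key _ G H rfl h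
  intro N
  induction N using Nat.strong_induction_on with
  | _ N ih =>
    intro G _ _ H hcard h
    subst hcard
    have IH : IndHyp G := fun X hX K hK => by
      refine ih _ ?_ ↥X K rfl hK
      refine lt_of_le_of_ne (card_le_card_group X) fun e => hX (eq_top_of_card_eq X e)
    by_cases hcore : H.normalCore = ⊥
    · haveI : FaithfulSMul G (G ⧸ H) := ⟨fun {g₁ g₂} e => by
        have h1 : g₁⁻¹ * g₂ ∈ H.normalCore := by
          intro b
          have h2 := e ((b⁻¹ : G) : G ⧸ H)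
          have h3 : (g₁ * b⁻¹)⁻¹ * (g₂ * b⁻¹) ∈ H := QuotientGroup.eq.1 h2
          simpa [mul_assoc] using h3
        rw [hcore, mem_bot] at h1
        exact inv_mul_eq_one.1 h1⟩
      exact step H h IH
    · have hlt : Nat.card (G ⧸ H.normalCore) < Nat.card G := by
        rw [card_eq_card_quotient_mul_card_subgroup H.normalCore]
        have h1 : 1 < Nat.card ↥H.normalCore := (one_lt_card_iff_ne_bot _).2 hcore
        exact lt_mul_of_one_lt_right Nat.card_pos h1
      exact Concl.of_quot (normalCore_le H) h h.odd_normalCore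
        (ih _ hlt _ _ rfl (h.quot (normalCore_le H) h.odd_normalCore))

end Cfsg.Agent.SETwoClosed
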