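import Cfsg.Agent.Lib.SETwoClosed.TI
import Cfsg.Agent.Lib.SETwoClosed.Tail.Main

/-!
# Theorem T for simple groups with TI Sylow 2-subgroups
-/

set_option autoImplicit false

namespace Cfsg.Agent.SETwoClosed

universe u

/-- The input `TITheorem` of the classification of groups with cyclic Sylow 2-intersections. -/
theorem tiTheorem : CyclicSylowInter.TITheorem.{u} :=
  tiTheorem_of fun h => h.concl

end Cfsg.Agent.SETwoClosed
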