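import Mathlib
import Cfsg.Agent.S1136
import Cfsg.Agent.Lib.Involutions.RankOne.ConsS1222
import Cfsg.Agent.Lib.SETwoClosed.Ind
import Cfsg.Agent.Lib.CyclicSylowInter.Defs

/-!
# Strongly embedded subgroups with a normal Sylow 2-subgroup: simple groups with TI Sylow 2-subgroups
-/

set_option autoImplicit false
set_option linter.style.haveILetI false
set_option linter.unusedSectionVars false

namespace Cfsg.Agent.SETwoClosed

open Subgroup MulAction
open Cfsg.Agent.Involutions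
open scoped Pointwise

universe u

variable {G : Type u} [Group G] [Finite G]

/-- A simple group with a strongly embedded subgroup satisfying the conclusion is on Suzuki's list. -/
theorem kindTI_of_concl [IsSimpleGroup G] {H : Subgroup G} (h : Hyp H) (hC : Concl H) :
    CyclicSylowInter.KindTI G := by
  have hH := h.se
  haveI := RankOne.Cons.faithful hH.1
  have hQH : Sx (base H) ≤ H := fun e he => smul_base_iff.1 (Sx_le _ he)
  have htrans : ∀ g₁ g₂ : G, g₁ ∉ H → g₂ ∉ H → ∃ u ∈ Sx (base H), g₂⁻¹ * (u * g₁) ∈ H := by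
    intro g₁ g₂ h1 h2
    obtain ⟨s, hs, hsy⟩ := hC.trans (g₁ • base H) (g₂ • base H) (fun e => h1 (smul_base_iff.1 e))
      (fun e => h2 (smul_base_iff.1 e))
    refine ⟨s, hs, smul_base_iff.1 ?_⟩
    rw [mul_smul, mul_smul, hsy, inv_smul_smul]
  have hreg : ∀ g : G, g ∉ H → ∀ u ∈ Sx (base H), g⁻¹ * (u * g) ∈ H → u = 1 := by
    intro g hg u hu hug
    refine h.eq_one_of_fix_two (fun e => hg (smul_base_iff.1 e.symm)) hu (y := g • base H) ?_
    have h1 := smul_base_iff.2 hug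
    rw [mul_smul, mul_smul, inv_smul_eq_iff] at h1
    exact h1
  have hQn : ((Sx (base H)).subgroupOf H).Normal :=
    ⟨fun e he g => Sx_normal (smul_base_iff.2 g.2) he⟩
  obtain ⟨t, hS⟩ := RankOne.Cons.exists_setup hH hQH hQn htrans hreg
  obtain ⟨a, -, b, -, ha, hb, hab, hc⟩ := h.four
  obtain ⟨L, hLn, hLodd, hL⟩ := S1136.result hS
    ⟨a, b, Basic.ne_one ha, Basic.ne_one hb, hab, Basic.inv_sq_one ha, Basic.inv_sq_one hb, hc.eq⟩
  have hLtop : L = ⊤ := RankOne.Cons.eq_top_of_odd_index hLn hLodd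
    (hH.2.1.trans_dvd (card_subgroup_dvd_card H))
  subst hLtop
  let e : ↥(⊤ : Subgroup G) ≃* G := Subgroup.topEquiv
  rcases hL with ⟨F, i1, i2, ⟨n, hn, hF⟩, ⟨f⟩⟩ | ⟨F, i1, i2, m, hm, hF, ⟨f⟩⟩ |
    ⟨F, i1, i2, n, hn, hF, ⟨f⟩⟩
  · exact Or.inl ⟨n, F, i1, i2, hn, hF, ⟨e.symm.trans f⟩⟩
  · exact Or.inr (Or.inl ⟨m, F, i1, i2, hm, hF, ⟨e.symm.trans f⟩⟩)
  · refine Or.inr (Or.inr ⟨n, F, i1, i2, hn, ?_, ⟨e.symm.trans f⟩⟩)
    rw [hF, ← pow_mul, mul_comm, pow_mul]
    norm_num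

/-- In a simple group with TI Sylow 2-subgroups the normalizer of one satisfies the hypothesis. -/
theorem hyp_normalizer [IsSimpleGroup G] (hnc : ¬ IsMulCommutative G)
    (hTI : CyclicSylowInter.TISylow G) (S : Sylow 2 G) :
    Hyp (normalizer ((S : Subgroup G) : Set G)) := by
  haveI : Fact (Nat.Prime 2) := ⟨Nat.prime_two⟩
  set H := normalizer ((S : Subgroup G) : Set G)
  have heven : Even (Nat.card G) := by
    by_contra hodd
    haveI := Cfsg.Agent.S0205.result (G := G) (Nat.not_even_iff_odd.1 hodd)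
    exact hnc ⟨⟨IsSimpleGroup.comm_iff_isSolvable.2 inferInstance⟩⟩
  -- 2-elements of `H` lie in `S`
  have hmemS : ∀ x ∈ H, TwoEl x → x ∈ (S : Subgroup G) := by
    intro x hx hx2
    obtain ⟨k, hk⟩ := hx2
    have hp : IsPGroup 2 ↥(zpowers x) := by
      intro b
      obtain ⟨i, hi⟩ := mem_zpowers_iff.1 b.2
      refine ⟨k, Subtype.ext ?_⟩
      rw [Subgroup.coe_pow, ← hi, ← zpow_natCast (x ^ i), zpow_comm, zpow_natCast, hk, one_zpow]; rfl
    have h1 : IsPGroup 2 ↥(zpowers x ⊔ (S : Subgroup G)) :=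
      hp.to_sup_of_normal_right' S.2 (zpowers_le.2 hx)
    have h2 := S.3 h1 le_sup_right
    exact h2 ▸ mem_sup_left (mem_zpowers x)
  have hSne : (S : Subgroup G) ≠ ⊤ := by
    intro e
    have hpG : IsPGroup 2 G := fun g => by
      obtain ⟨k, hk⟩ := S.2 ⟨g, e ▸ mem_top g⟩
      exact ⟨k, congrArg Subtype.val hk⟩
    haveI := hpG.isNilpotent
    exact hnc ⟨⟨IsSimpleGroup.comm_iff_isSolvable.2 inferInstance⟩⟩
  have hSbot : (S : Subgroup G) ≠ ⊥ := S.ne_bot_of_dvd_card (even_iff_two_dvd.1 heven)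
  have hH : H ≠ ⊤ := by
    intro e
    haveI : (S : Subgroup G).Normal := normalizer_eq_top_iff.1 e
    rcases IsSimpleGroup.eq_bot_or_eq_top_of_normal (S : Subgroup G) inferInstance with h | h
    exacts [hSbot h, hSne h]
  obtain ⟨t0, ht0, ht02⟩ : ∃ t ∈ (S : Subgroup G), orderOf t = 2 := by
    refine StronglyEmbedded.exists_involution_mem ?_
    obtain ⟨k, hk⟩ := IsPGroup.iff_card.1 S.2
    rw [hk]
    refine Nat.even_pow.2 ⟨even_two, fun e => hSbot ?_⟩
    exact card_eq_one.1 (by rw [hk, e, pow_zero])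
  have hse : Cfsg.IsStronglyEmbedded H := by
    refine StronglyEmbedded.of_conj hH ?_ fun t ht ht2 g hg => ?_
    · rw [even_iff_two_dvd, ← ht02]
      exact orderOf_coe (⟨t0, le_normalizer ht0⟩ : ↥H) ▸ orderOf_dvd_natCard _
    · have h1 := hmemS t ht (twoEl_of_sq (Basic.inv_sq_one ht2))
      have h2 := hmemS _ hg (twoEl_of_sq (by
        rw [show g * t * g⁻¹ * (g * t * g⁻¹) = g * (t * t) * g⁻¹ by group, Basic.inv_sq_one ht2, mul_one,
          mul_inv_cancel]))
      have h3 : g * t * g⁻¹ ∈ ((g • S : Sylow 2 G) : Subgroup G) := by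
        rw [Sylow.coe_subgroup_smul]
        exact ⟨t, h1, rfl⟩
      exact Sylow.smul_eq_iff_mem_normalizer.1
        (hTI (g • S) S _ (by rw [Basic.orderOf_conj, ht2]) h3 h2)
  refine ⟨hse, fun x hx y hy hx2 hy2 => ?_, ?_⟩
  · obtain ⟨k, hk⟩ := S.2 ⟨x * y, mul_mem (hmemS x hx hx2) (hmemS y hy hy2)⟩
    exact ⟨k, congrArg Subtype.val hk⟩
  · obtain ⟨x, y, hx1, hy1, hxy, hx2, hy2, hc⟩ := RankOne.Cons.exists_two_commuting hse
    have hord : ∀ z : G, z ≠ 1 → z * z = 1 → orderOf z = 2 := fun z h1 h2 =>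
      Basic.orderOf_two_iff.2 ⟨h2, h1⟩
    obtain ⟨T, hT⟩ := (IsPGroup.of_card (G := ↥(zpowers x)) (n := 1)
      (by rw [Nat.card_zpowers, hord x hx1 hx2, pow_one])).exists_le_sylow
    obtain ⟨g, hg⟩ := MulAction.exists_smul_eq G T S
    have hxS : g * x * g⁻¹ ∈ (S : Subgroup G) := by
      rw [← hg, Sylow.coe_subgroup_smul]
      exact ⟨x, hT (mem_zpowers x), rfl⟩
    have hyH : g * y * g⁻¹ ∈ H := by
      refine StronglyEmbedded.mem_of_commute hse (le_normalizer hxS)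
        (by rw [Basic.orderOf_conj, hord x hx1 hx2]) ?_
      show g * y * g⁻¹ * (g * x * g⁻¹) = g * x * g⁻¹ * (g * y * g⁻¹)
      calc g * y * g⁻¹ * (g * x * g⁻¹) = g * (y * x) * g⁻¹ := by group
        _ = g * (x * y) * g⁻¹ := by rw [hc]
        _ = _ := by group
    refine ⟨_, le_normalizer hxS, _, hyH, by rw [Basic.orderOf_conj, hord x hx1 hx2],
      by rw [Basic.orderOf_conj, hord y hy1 hy2], fun e => hxy (mul_left_cancel (mul_right_cancel e)), ?_⟩
    show g * x * g⁻¹ * (g * y * g⁻¹) = g * y * g⁻¹ * (g * x * g⁻¹)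
    calc g * x * g⁻¹ * (g * y * g⁻¹) = g * (x * y) * g⁻¹ := by group
      _ = g * (y * x) * g⁻¹ := by rw [hc]
      _ = _ := by group

/-- Theorem T with its recognition, from the conclusion for all groups. -/
theorem tiTheorem_of
    (hT : ∀ {G : Type u} [Group G] [Finite G] {H : Subgroup G}, Hyp H → Concl H) :
    CyclicSylowInter.TITheorem.{u} := by
  intro G _ _ _ hnc _ hTI
  haveI : Fact (Nat.Prime 2) := ⟨Nat.prime_two⟩
  obtain ⟨S⟩ := (inferInstance : Nonempty (Sylow 2 G))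
  have h := hyp_normalizer hnc hTI S
  exact kindTI_of_concl h (hT h)

end Cfsg.Agent.SETwoClosed
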